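import Cfsg.Agent.Lib.FusionNormalCent.Existence

/-
Lifts of automorphisms of an `E`-centric subgroup to a larger domain, trivial modulo the subgroup.
Main definitions: `Lifts`, `Tame`, `Gam`. Main results: `exists_std_map`, `conj_mem_lifts`.
-/

set_option autoImplicit false

namespace Cfsg.Agent.FusionFix

open Cfsg Cfsg.FusionSystem Cfsg.Agent.Fusion Cfsg.Agent.FusionNormalCent

variable {Ω : Type*} [Group Ω] {S T : Subgroup Ω} {F : FusionSystem S} {E : FusionSystem T} {p : ℕ}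

/-- `γ` is an automorphism in `F` of `M`, trivial modulo `Q`, inducing a map of `E` on `Q`. -/
def IsLift (F : FusionSystem S) (E : FusionSystem T) (Q M : Subgroup Ω) (γ : MulAut M) : Prop :=
  γ ∈ F.autGroup M ∧ (∀ x ∈ M, x⁻¹ * autFn γ x ∈ Q) ∧ IsMap E Q (autFn γ)

/-- A lift that has order prime to `p` or is conjugation by an element of `T`. -/
def Tame (F : FusionSystem S) (E : FusionSystem T) (p : ℕ) (Q M : Subgroup Ω) (γ : MulAut M) :
    Prop :=
  IsLift F E Q M γ ∧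
    ((orderOf γ).Coprime p ∨ ∃ t ∈ normalizerIn T Q, ∀ x ∈ M, autFn γ x = t * x * t⁻¹)

/-- The group generated by the tame lifts. -/
def Gam (F : FusionSystem S) (E : FusionSystem T) (p : ℕ) (Q M : Subgroup Ω) :
    Subgroup (MulAut M) :=
  Subgroup.closure {γ | Tame F E p Q M γ}

theorem IsLift.mapsTo {Q M : Subgroup Ω} {γ : MulAut M} (h : IsLift F E Q M γ) (hQM : Q ≤ M)
    {x : Ω} (hx : x ∈ Q) : autFn γ x ∈ Q := by
  have := mul_mem hx (h.2.1 x (hQM hx))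
  rwa [mul_inv_cancel_left] at this

theorem IsLift.aut [Finite S] (hTS : T ≤ S) {Q M : Subgroup Ω} {γ : MulAut M}
    (h : IsLift F E Q M γ) (hQM : Q ≤ M) :
    ∃ ψ ∈ E.autGroup Q, ∀ x : Q, ((ψ x : Q) : Ω) = autFn γ x := by
  have hQT : Q ≤ T := h.2.2.le
  have := finite_of_le hTS
  exact exists_aut_of_isIso ⟨h.2.2, eq_of_le_of_card hQT
    (h.2.2.img_le le_rfl fun x hx => h.mapsTo hQM hx) (h.2.2.card_img le_rfl).ge⟩

/-- The lifts form a group. -/
def Lifts (F : FusionSystem S) (E : FusionSystem T) [Finite S] (hTS : T ≤ S) (Q M : Subgroup Ω)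
    (hQT : Q ≤ T) (hQM : Q ≤ M) : Subgroup (MulAut M) where
  carrier := {γ | IsLift F E Q M γ}
  one_mem' := ⟨one_mem _, fun x hx => by rw [autFn_apply _ hx]; simp,
    (IsMap.id hQT).congr fun x hx => by rw [autFn_apply _ (hQM hx)]; rfl⟩
  mul_mem' := by
    rintro a b ha hb
    have e : ∀ x ∈ M, autFn (a * b) x = autFn a (autFn b x) := fun x hx => by
      rw [autFn_apply (a * b) hx, autFn_apply a (autFn_mem b hx), MulAut.mul_apply]
      exact congrArg (fun z : M => ((a z : M) : Ω)) (Subtype.ext (autFn_apply b hx).symm)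
    refine ⟨mul_mem ha.1 hb.1, fun x hx => ?_, (hb.2.2.comp ha.2.2 fun x hx => hb.mapsTo hQM hx).congr
      fun x hx => (e x (hQM hx)).symm⟩
    rw [e x hx, show x⁻¹ * autFn a (autFn b x) =
      x⁻¹ * autFn b x * ((autFn b x)⁻¹ * autFn a (autFn b x)) by group]
    exact mul_mem (hb.2.1 x hx) (ha.2.1 _ (autFn_mem b hx))
  inv_mem' := by
    rintro a ha
    obtain ⟨ψ, hψ, hψe⟩ := ha.aut hTS hQM
    refine ⟨inv_mem ha.1, fun x hx => ?_, ((mem_autGroup_iff hQT).1 (inv_mem hψ)).congr fun x hx => ?_⟩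
    · have h1 := ha.2.1 _ (autFn_mem a⁻¹ hx)
      have h2 : autFn a (autFn a⁻¹ x) = x := by
        rw [autFn_apply a⁻¹ hx, autFn_apply a (a⁻¹ ⟨x, hx⟩ : M).2]
        exact congrArg Subtype.val (MulAut.apply_inv_self _ a ⟨x, hx⟩)
      rw [h2] at h1
      have := inv_mem h1
      rwa [mul_inv_rev, inv_inv] at this
    · set y := ψ⁻¹ ⟨x, hx⟩
      have h1 : (⟨x, hQM hx⟩ : M) = a ⟨y, hQM y.2⟩ := by
        refine Subtype.ext ?_
        rw [← autFn_apply a (hQM y.2), ← hψe y]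
        exact (congrArg Subtype.val (MulAut.apply_inv_self _ ψ ⟨x, hx⟩)).symm
      rw [autFn_apply ψ⁻¹ hx, autFn_apply a⁻¹ (hQM hx), h1, MulAut.inv_apply_self]

theorem mem_lifts [Finite S] {hTS : T ≤ S} {Q M : Subgroup Ω} {hQT : Q ≤ T} {hQM : Q ≤ M}
    {γ : MulAut M} : γ ∈ Lifts F E hTS Q M hQT hQM ↔ IsLift F E Q M γ := Iff.rfl

theorem gam_le_lifts [Finite S] (hTS : T ≤ S) {Q M : Subgroup Ω} (hQT : Q ≤ T) (hQM : Q ≤ M) :
    Gam F E p Q M ≤ Lifts F E hTS Q M hQT hQM :=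
  (Subgroup.closure_le _).2 fun _ h => h.1

/-- An element of `T` normalizing `Q` moves `C_S(Q)` modulo `Q`. -/
theorem conj_mod_centralizer [Finite S] (hT : F.StronglyClosed T) {Q : Subgroup Ω}
    (hc : centralizerIn T Q ≤ Q) {t : Ω} (ht : t ∈ normalizerIn T Q) {c : Ω}
    (hcc : c ∈ centralizerIn S Q) : c⁻¹ * (t * c * t⁻¹) ∈ Q := by
  refine hc (mem_centralizerIn_of_conj ?_ fun x hx => ?_)
  · rw [show c⁻¹ * (t * c * t⁻¹) = (c⁻¹ * t * c) * t⁻¹ by group]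
    refine mul_mem ?_ (inv_mem ht.1)
    have := conj_mem_of_stronglyClosed hT (inv_mem hcc.1) ht.1
    rwa [inv_inv] at this
  · have hx' : t⁻¹ * x * t ∈ Q := normalizerIn_conj_inv ht hx
    have h1 : t * c * t⁻¹ * x * (t * c * t⁻¹)⁻¹ = x := by
      calc t * c * t⁻¹ * x * (t * c * t⁻¹)⁻¹ = t * (c * (t⁻¹ * x * t) * c⁻¹) * t⁻¹ := by group
        _ = x := by rw [centralizerIn_conj hcc hx']; group
    calc c⁻¹ * (t * c * t⁻¹) * x * (c⁻¹ * (t * c * t⁻¹))⁻¹
        = c⁻¹ * (t * c * t⁻¹ * x * (t * c * t⁻¹)⁻¹) * c := by group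
      _ = c⁻¹ * x * c := by rw [h1]
      _ = x := by
        have := centralizerIn_conj (inv_mem hcc) hx
        rwa [inv_inv] at this

/-- Elements of `Q C_S(Q)` are products. -/
theorem exists_mul_of_mem_dom {Q : Subgroup Ω} (hQ : Q ≤ S) {x : Ω} (hx : x ∈ Dom S Q) :
    ∃ q ∈ Q, ∃ c ∈ centralizerIn S Q, x = q * c := by
  have hle : centralizerIn S Q ≤ Subgroup.normalizer (Q : Set Ω) :=
    fun c hc => (centralizerIn_le_normalizerIn S Q hc).2
  have h : x ∈ (↑(Q ⊔ centralizerIn S Q) : Set Ω) := hx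
  rw [Subgroup.coe_mul_of_right_le_normalizer_left Q _ hle] at h
  obtain ⟨q, hq, c, hc, rfl⟩ := Set.mem_mul.1 h
  exact ⟨q, hq, c, hc, rfl⟩

/-- Conjugation by an element of `N_T(Q)` is a tame lift on `M`. -/
theorem exists_conj_tame [Finite S] (hT : F.StronglyClosed T) {Q M : Subgroup Ω}
    (hQT : Q ≤ T) (hc : centralizerIn T Q ≤ Q) (hQM : Q ≤ M) (hM : M ≤ Dom S Q) {t : Ω}
    (ht : t ∈ normalizerIn T Q) :
    ∃ γ, Tame F E p Q M γ ∧ ∀ x ∈ M, autFn γ x = t * x * t⁻¹ := by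
  have hQS : Q ≤ S := hQT.trans hT.1
  have hMS : M ≤ S := hM.trans (dom_le hQS)
  have := finite_of_le hMS
  have hmod : ∀ x ∈ M, x⁻¹ * (t * x * t⁻¹) ∈ Q := by
    intro x hx
    obtain ⟨q, hq, c, hcc, rfl⟩ := exists_mul_of_mem_dom hQS (hM hx)
    have h1 := conj_mod_centralizer hT hc ht hcc
    rw [show (q * c)⁻¹ * (t * (q * c) * t⁻¹) =
      c⁻¹ * (q⁻¹ * (t * q * t⁻¹)) * c * (c⁻¹ * (t * c * t⁻¹)) by group]
    exact mul_mem (normalizerIn_conj_inv (centralizerIn_le_normalizerIn S Q hcc)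
      (mul_mem (inv_mem hq) (normalizerIn_conj ht hq))) h1
  have htM : t ∈ normalizerIn S M := mem_normalizerIn_of_conj (hT.1 ht.1) fun x hx =>
    mem_of_mod (f := fun y => t * y * t⁻¹) hQM hmod hx
  have he : ∀ x ∈ M, autFn (normConj S M ⟨t, htM⟩) x = t * x * t⁻¹ := fun x hx => by
    rw [autFn_apply _ hx, normConj_apply]
  refine ⟨normConj S M ⟨t, htM⟩, ⟨⟨(mem_autGroup_iff hMS).2
    ((IsMap.conj hMS (hT.1 ht.1)).congr fun x hx => (he x hx).symm),
    fun x hx => by rw [he x hx]; exact hmod x hx,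
    (IsMap.conj hQT ht.1).congr fun x hx => (he x (hQM hx)).symm⟩, Or.inr ⟨t, ht, he⟩⟩, he⟩

/-- A map to a fully normalized subgroup whose `Q C_S(Q)` is fully normalized as well. -/
theorem exists_std_map [Finite S] [Fact p.Prime] (hS : IsPGroup p S) (hF : F.IsSaturated p)
    {Q : Subgroup Ω} (hQ : Q ≤ S) :
    ∃ R g, F.IsFullyNormalized R ∧ F.IsFullyNormalized (Dom S R) ∧
      IsMap F (normalizerIn S Q) g ∧ img g Q = R := by
  obtain ⟨Q₁, g₁, hQ₁, hg₁, hgQ₁, hgN₁⟩ := exists_fullyNormalized_map hS hF hQ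
  have hD₁ := dom_le (S := S) hQ₁.1
  obtain ⟨X, g₂, hX, hg₂, hgX, -⟩ := exists_fullyNormalized_map hS hF hD₁
  have hQ₁D := le_dom S Q₁
  have hND : normalizerIn S Q₁ ≤ normalizerIn S (Dom S Q₁) := fun s hs => by
    have := finite_of_le hD₁
    refine mem_normalizerIn_of_conj hs.1 fun x hx => ?_
    refine (IsMap.conj (F := F) hD₁ hs.1).forall_mem_sup le_sup_left le_sup_right
      (fun q hq => le_dom S Q₁ (normalizerIn_conj hs hq)) (fun c hc => cen_le_dom S Q₁ ?_) hx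
    refine mem_centralizerIn_of_conj (mul_mem (mul_mem hs.1 hc.1) (inv_mem hs.1)) fun z hz => ?_
    calc s * c * s⁻¹ * z * (s * c * s⁻¹)⁻¹ = s * (c * (s⁻¹ * z * s) * c⁻¹) * s⁻¹ := by group
      _ = z := by rw [centralizerIn_conj hc (normalizerIn_conj_inv hs hz)]; group
  set R := img g₂ Q₁
  have hQ₁N : Q₁ ≤ normalizerIn S (Dom S Q₁) := (le_normalizerIn hQ₁.1).trans hND
  have hRS : R ≤ S := (hg₂.mono hQ₁N).img_le_S
  have hcQ : F.IsConj Q₁ R := isConj_iff.2 ⟨g₂, hg₂.mono hQ₁N, rfl⟩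
  have hfin := finite_of_le (S := S) (P := normalizerIn S R) inf_le_left
  have hR : F.IsFullyNormalized R := ⟨hRS, fun P hP => by
    refine (hQ₁.2 P (isConj_trans hcQ hP)).trans ?_
    rw [← (hg₂.mono hND).card_img le_rfl]
    exact Subgroup.card_le_of_le ((hg₂.mono hND).img_le le_rfl fun x hx =>
      map_normalizerIn hg₂ hQ₁N rfl (hND hx) hx)⟩
  have hDX : Dom S R = X := by
    have hcle : img g₂ (centralizerIn S Q₁) = centralizerIn S R := by
      have hle : centralizerIn S Q₁ ≤ normalizerIn S (Dom S Q₁) :=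
        (cen_le_dom S Q₁).trans (le_normalizerIn hD₁)
      refine eq_of_le_of_card inf_le_left (hg₂.img_le hle fun c hc =>
        map_centralizerIn hg₂ hQ₁N rfl (hle hc) hc) ?_
      rw [hg₂.card_img hle]
      exact (fullyCentralized_of_fullyNormalized hS hF hQ₁).2 R hcQ
    rw [← hgX]
    refine le_antisymm (sup_le (fun z hz => ?_) fun z hz => ?_)
      (hg₂.img_le (le_normalizerIn hD₁) fun x hx => hg₂.forall_mem_sup hQ₁N
        ((cen_le_dom S Q₁).trans (le_normalizerIn hD₁))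
        (fun q hq => le_dom S R (hg₂.mem_img hq))
        (fun c hc => cen_le_dom S R (hcle.le (hg₂.mem_img hc))) hx)
    · obtain ⟨x, hx, rfl⟩ := (hg₂.mem_img_iff hQ₁N).1 hz
      exact hg₂.mem_img (le_dom S Q₁ hx)
    · rw [← hcle] at hz
      obtain ⟨x, hx, rfl⟩ := (hg₂.mem_img_iff ((cen_le_dom S Q₁).trans (le_normalizerIn hD₁))).1 hz
      exact hg₂.mem_img (cen_le_dom S Q₁ hx)
  have hcomp : IsMap F (normalizerIn S Q) fun x => g₂ (g₁ x) :=
    hg₁.comp hg₂ fun x hx => hND (hgN₁ x hx)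
  refine ⟨R, _, hR, hDX.symm ▸ hX, hcomp, le_antisymm
    (hcomp.img_le (le_normalizerIn hQ) fun x hx => hg₂.mem_img (hgQ₁ ▸ hg₁.mem_img hx)) fun z hz => ?_⟩
  obtain ⟨x, hx, rfl⟩ := (hg₂.mem_img_iff hQ₁N).1 hz
  rw [← hgQ₁] at hx
  obtain ⟨w, hw, rfl⟩ := (hg₁.mem_img_iff (le_normalizerIn hQ)).1 hx
  exact (hcomp.mem_img_iff (le_normalizerIn hQ)).2 ⟨w, hw, rfl⟩

end Cfsg.Agent.FusionFix
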