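import Cfsg.Agent.Lib.FusionFix.Local
import Cfsg.Agent.Lib.KInfinity.Functor
import Cfsg.Agent.Lib.FusionTransfer.Functor
import Cfsg.Agent.Lib.FunctorControl.WeakClosureMain
import Cfsg.Agent.Lib.Fusion.GroupBridge
import Cfsg.Agent.S1985

/-
The functor `wF c U = K∞(U⟨c⟩) ∩ U` satisfies the local condition for odd `p`.
Main results: `wF`, `wF_le`, `wF_normalizer`, `wF_centralizer`, `localHyp_wF`, `centralizes_shift`.
-/

set_option autoImplicit false

namespace Cfsg.Agent.FusionFix

open Cfsg Cfsg.FusionSystem Cfsg.Agent.Fusion Cfsg.Agent.FusionNormalCent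
open scoped Classical

universe u

variable {Ω : Type u} [Group Ω] {S T U Q : Subgroup Ω} {F : FusionSystem S} {E : FusionSystem T}
  {E' : FusionSystem U} {p : ℕ} {c : Ω}

/-- The functor relative to `c`. -/
def wF (c : Ω) (U : Subgroup Ω) : Subgroup Ω :=
  inducedFunctor Cfsg.kInfLower (U ⊔ Subgroup.zpowers c) ⊓ U

theorem wF_le (c : Ω) (U : Subgroup Ω) : wF c U ≤ U := inf_le_right

theorem commute_sup (hUT : U ≤ T) (hc : c ∈ centralizerIn S T) {x : Ω}
    (hx : x ∈ U ⊔ Subgroup.zpowers c) : x * c = c * x := by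
  have h : U ⊔ Subgroup.zpowers c ≤ Subgroup.centralizer ({c} : Set Ω) :=
    sup_le (fun u hu => Subgroup.mem_centralizer_singleton_iff.2
      ((mem_centralizerIn.1 hc).2 u (hUT hu)).symm)
      ((Subgroup.zpowers_le).2 (Subgroup.mem_centralizer_singleton_iff.2 rfl))
  exact Subgroup.mem_centralizer_singleton_iff.1 (h hx)

theorem mem_kInf [Finite S] [Fact p.Prime] (hS : IsPGroup p S) (hTS : T ≤ S) (hUT : U ≤ T)
    (hc : c ∈ centralizerIn S T) :
    c ∈ inducedFunctor Cfsg.kInfLower (U ⊔ Subgroup.zpowers c) := by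
  have hVS : U ⊔ Subgroup.zpowers c ≤ S := sup_le (hUT.trans hTS) ((Subgroup.zpowers_le).2 hc.1)
  have := finite_of_le hVS
  have hVp := hS.to_le hVS
  haveI := hVp.isNilpotent
  refine ⟨⟨c, le_sup_right (a := U) (Subgroup.mem_zpowers c)⟩,
    KInfinity.centralizer_kInfLower_le (Subgroup.mem_centralizer_iff.2 fun y _ => Subtype.ext ?_), rfl⟩
  exact commute_sup hUT hc y.2

theorem wF_normalizer [Finite S] [Fact p.Prime] (hS : IsPGroup p S) (hTS : T ≤ S) (hUT : U ≤ T)
    (hc : c ∈ centralizerIn S T) : normalizerIn T U ≤ normalizerIn T (wF c U) := by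
  intro g hg
  have hVS : U ⊔ Subgroup.zpowers c ≤ S := sup_le (hUT.trans hTS) ((Subgroup.zpowers_le).2 hc.1)
  have := finite_of_le hVS
  have hW := KInfinity.isCharPFunctor_kInfLower.{u} p
  have hgV : g ∈ normalizerIn S (U ⊔ Subgroup.zpowers c) := by
    refine mem_normalizerIn_of_conj (hTS hg.1) fun x hx => ?_
    refine (IsMap.conj (F := innerFusionSystem S) hVS (hTS hg.1)).forall_mem_sup le_sup_left
      le_sup_right (fun u hu => le_sup_left (b := Subgroup.zpowers c) (normalizerIn_conj hg hu))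
      (fun w hw => le_sup_right (a := U) ?_) hx
    obtain ⟨j, rfl⟩ := Subgroup.mem_zpowers_iff.1 hw
    rw [← (mem_centralizerIn.1 (zpow_mem hc j)).2 g hg.1, mul_inv_cancel_right]
    exact zpow_mem (Subgroup.mem_zpowers c) j
  have hgK := FusionTransfer.func_normalizer (W := Cfsg.kInfLower) hS hW hVS hgV
  have : Finite (wF c U) := finite_of_le ((wF_le c U).trans (hUT.trans hTS))
  exact mem_normalizerIn_of_conj hg.1 fun x hx =>
    ⟨normalizerIn_conj hgK hx.1, normalizerIn_conj hg hx.2⟩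

theorem exists_split (hUT : U ≤ T) (hc : c ∈ centralizerIn S T) {x : Ω}
    (hx : x ∈ U ⊔ Subgroup.zpowers c) : ∃ u ∈ U, ∃ j : ℤ, x = u * c ^ j := by
  have hn : Subgroup.zpowers c ≤ Subgroup.normalizer (U : Set Ω) := fun w hw => by
    obtain ⟨j, rfl⟩ := Subgroup.mem_zpowers_iff.1 hw
    refine Subgroup.mem_normalizer_iff.2 fun y => ⟨fun hy => ?_, fun hy => ?_⟩
    · rwa [(mem_centralizerIn.1 (zpow_mem hc j)).2 y (hUT hy), mul_inv_cancel_right]
    · have := (mem_centralizerIn.1 (zpow_mem hc j)).2 _ (hUT hy)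
      rwa [show y = (c ^ j)⁻¹ * (c ^ j * y * (c ^ j)⁻¹ * c ^ j) by group, ← this, inv_mul_cancel_left]
  have h : x ∈ (↑(U ⊔ Subgroup.zpowers c) : Set Ω) := hx
  rw [Subgroup.coe_mul_of_right_le_normalizer_left U _ hn] at h
  obtain ⟨u, hu, w, hw, rfl⟩ := Set.mem_mul.1 h
  obtain ⟨j, rfl⟩ := Subgroup.mem_zpowers_iff.1 hw
  exact ⟨u, hu, j, rfl⟩

theorem wF_centralizer [Finite S] [Fact p.Prime] (hS : IsPGroup p S) (hTS : T ≤ S) (hUT : U ≤ T)
    (hc : c ∈ centralizerIn S T) : centralizerIn U (wF c U) ≤ wF c U := by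
  intro z hz
  have hVS : U ⊔ Subgroup.zpowers c ≤ S := sup_le (hUT.trans hTS) ((Subgroup.zpowers_le).2 hc.1)
  have := finite_of_le hVS
  have hVp := hS.to_le hVS
  haveI := hVp.isNilpotent
  have hcK := mem_kInf hS hTS hUT hc
  refine ⟨⟨⟨z, le_sup_left (b := Subgroup.zpowers c) hz.1⟩,
    KInfinity.centralizer_kInfLower_le (Subgroup.mem_centralizer_iff.2 fun y hy => Subtype.ext ?_),
    rfl⟩, hz.1⟩
  obtain ⟨u, hu, j, he⟩ := exists_split hUT hc y.2
  have hyK : (y : Ω) ∈ inducedFunctor Cfsg.kInfLower (U ⊔ Subgroup.zpowers c) := ⟨y, hy, rfl⟩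
  have huK : u ∈ wF c U := by
    refine ⟨?_, hu⟩
    have := mul_mem hyK (inv_mem (zpow_mem hcK j))
    rwa [he, mul_inv_cancel_right] at this
  show (y : Ω) * z = z * y
  rw [he, mul_assoc, (mem_centralizerIn.1 (zpow_mem hc j)).2 z (hUT hz.1), ← mul_assoc,
    ← (mem_centralizerIn.1 hz).2 u huK, mul_assoc]

namespace Loc

theorem lifts_fix (L : Loc F E p E' Q c) (hp : p ≠ 2)
    (hw : WHyp F (Subgroup.zpowers c) (wF c) E') :
    ∀ a : E'.autGroup Q, autFn (L.lam a) c = c := by
  have := L.fin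
  have := L.prime
  have := L.finU
  have hMS := L.M_le_S
  have := finite_of_le hMS
  have hW := KInfinity.isCharPFunctor_kInfLower.{u} p
  have h : NC E' p Q := ⟨L.finU, L.prime, L.pU, L.sat, L.qnor, L.qcen⟩
  have hLfin := h.finite_mdl
  obtain ⟨-, hι, ⟨Tm, hTm⟩, -⟩ := h.isModel_emb
  have hinj := h.emb_injective
  have hcM : c ∈ Q ⊔ Subgroup.zpowers c := le_sup_right (a := Q) (Subgroup.mem_zpowers c)
  have hQM : Q ≤ Q ⊔ Subgroup.zpowers c := le_sup_left
  set cM : (Q ⊔ Subgroup.zpowers c : Subgroup Ω) := ⟨c, hcM⟩ with hcMdef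
  have hUV : U ≤ U ⊔ Subgroup.zpowers c := le_sup_left
  have hMV : Q ⊔ Subgroup.zpowers c ≤ U ⊔ Subgroup.zpowers c := sup_le_sup_right L.qnor.1 _
  have hVS : U ⊔ Subgroup.zpowers c ≤ S :=
    sup_le (L.le.trans L.hTS) ((Subgroup.zpowers_le).2 L.mem.1)
  -- the action of the model
  let φ : h.Mdl →* MulAut (Q ⊔ Subgroup.zpowers c : Subgroup Ω) := L.lam.comp h.proj
  have hφQ : ∀ (l : h.Mdl) (q : Q), φ l ⟨q, hQM q.2⟩ =
      ⟨((h.proj l : MulAut Q) q : Q), hQM (Subtype.mem _)⟩ := fun l q => Subtype.ext (by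
    rw [← autFn_apply (φ l) (hQM q.2)]
    show autFn (L.lam (h.proj l)) q = _
    rw [L.lam_eq _ q.2, autFn_apply _ q.2])
  have hφU : ∀ (s : U) (x : (Q ⊔ Subgroup.zpowers c : Subgroup Ω)),
      ((φ (h.emb s) x : (Q ⊔ Subgroup.zpowers c : Subgroup Ω)) : Ω) = (s : Ω) * x * (s : Ω)⁻¹ := by
    intro s x
    rw [← autFn_apply (φ (h.emb s)) x.2]
    show autFn (L.lam (h.proj (h.emb s))) x = _
    refine L.lam_conj s.2 (fun q => ?_) x.2
    rw [h.proj_emb]
    exact h.pr_apply s q
  have : Finite ((Q ⊔ Subgroup.zpowers c : Subgroup Ω) ⋊[φ] h.Mdl) := Finite.of_equiv _ SemidirectProduct.equivProd.symm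
  let δ : Q →* ((Q ⊔ Subgroup.zpowers c : Subgroup Ω) ⋊[φ] h.Mdl) :=
    { toFun := fun q => ⟨(⟨(q : Ω), hQM q.2⟩ : (Q ⊔ Subgroup.zpowers c : Subgroup Ω))⁻¹,
        h.emb ⟨q, h.le q.2⟩⟩
      map_one' := SemidirectProduct.ext (by simp) (map_one h.emb)
      map_mul' := fun q r => by
        refine SemidirectProduct.ext (Subtype.ext ?_) ?_
        · rw [SemidirectProduct.mul_left]
          show _ = (q : Ω)⁻¹ *
            ((φ (h.emb ⟨q, h.le q.2⟩) (⟨(r : Ω), hQM r.2⟩⁻¹) :
              (Q ⊔ Subgroup.zpowers c : Subgroup Ω)) : Ω)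
          rw [hφU]
          show ((q : Ω) * r)⁻¹ = (q : Ω)⁻¹ * ((q : Ω) * (r : Ω)⁻¹ * (q : Ω)⁻¹)
          group
        · rw [SemidirectProduct.mul_right]
          exact map_mul h.emb ⟨q, h.le q.2⟩ ⟨r, h.le r.2⟩ }
  have hΔ : (δ.range).Normal := by
    refine ⟨fun g hg x => ?_⟩
    obtain ⟨q, rfl⟩ := hg
    have hl : ∀ (l : h.Mdl) (q : Q), SemidirectProduct.inr l * δ q * (SemidirectProduct.inr l)⁻¹ =
        δ ((h.proj l : MulAut Q) q) := by
      intro l q
      refine SemidirectProduct.ext ?_ ?_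
      · simp only [SemidirectProduct.mul_left, SemidirectProduct.inv_left, SemidirectProduct.left_inr,
          SemidirectProduct.right_inr, SemidirectProduct.mul_right, inv_one, one_mul, map_one, mul_one]
        show φ l (⟨(q : Ω), hQM q.2⟩⁻¹) = _
        rw [map_inv, hφQ]
        rfl
      · simp only [SemidirectProduct.mul_right, SemidirectProduct.inv_right, SemidirectProduct.right_inr]
        exact h.emb_conj l q
    have hm : ∀ (m : (Q ⊔ Subgroup.zpowers c : Subgroup Ω)) (q : Q),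
        SemidirectProduct.inl m * δ q * (SemidirectProduct.inl m)⁻¹ = δ q := by
      intro m q
      refine SemidirectProduct.ext (Subtype.ext ?_) ?_
      · simp only [SemidirectProduct.mul_left, SemidirectProduct.inv_left, SemidirectProduct.left_inl,
          SemidirectProduct.right_inl, SemidirectProduct.mul_right, inv_one, map_one, one_mul,
          MulAut.one_apply]
        show (m : Ω) * (q : Ω)⁻¹ * ((φ (h.emb ⟨q, h.le q.2⟩) m⁻¹ :
          (Q ⊔ Subgroup.zpowers c : Subgroup Ω)) : Ω) = (q : Ω)⁻¹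
        rw [hφU]
        show (m : Ω) * (q : Ω)⁻¹ * ((q : Ω) * (m : Ω)⁻¹ * (q : Ω)⁻¹) = (q : Ω)⁻¹
        group
      · simp only [SemidirectProduct.mul_right, SemidirectProduct.inv_right, SemidirectProduct.right_inl,
          inv_one, mul_one, one_mul]
    rw [← SemidirectProduct.inl_left_mul_inr_right x]
    refine ⟨(h.proj x.right : MulAut Q) q, ?_⟩
    rw [mul_inv_rev, show SemidirectProduct.inl x.left * SemidirectProduct.inr x.right * δ q *
        ((SemidirectProduct.inr x.right)⁻¹ * (SemidirectProduct.inl x.left)⁻¹) =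
      SemidirectProduct.inl x.left * (SemidirectProduct.inr x.right * δ q *
        (SemidirectProduct.inr x.right)⁻¹) * (SemidirectProduct.inl x.left)⁻¹ by group, hl, hm]
  let G : Type u := ((Q ⊔ Subgroup.zpowers c : Subgroup Ω) ⋊[φ] h.Mdl) ⧸ δ.range
  let mk : ((Q ⊔ Subgroup.zpowers c : Subgroup Ω) ⋊[φ] h.Mdl) →* G := QuotientGroup.mk' δ.range
  have hmks : Function.Surjective mk := QuotientGroup.mk'_surjective _
  have hmke : ∀ {x y : ((Q ⊔ Subgroup.zpowers c : Subgroup Ω) ⋊[φ] h.Mdl)}, mk x = mk y ↔ ∃ q, δ q = x⁻¹ * y := fun {x y} =>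
    QuotientGroup.eq.trans MonoidHom.mem_range
  have : Finite G := Finite.of_surjective _ hmks
  let inU : U →* G := mk.comp (SemidirectProduct.inr.comp h.emb)
  let inM : (Q ⊔ Subgroup.zpowers c : Subgroup Ω) →* G := mk.comp SemidirectProduct.inl
  -- `U⟨c⟩` inside `G`
  let φU : U →* MulAut (Q ⊔ Subgroup.zpowers c : Subgroup Ω) := φ.comp h.emb
  let Ξ : (Q ⊔ Subgroup.zpowers c : Subgroup Ω) ⋊[φU] U →* (U ⊔ Subgroup.zpowers c : Subgroup Ω) :=
    SemidirectProduct.lift (Subgroup.inclusion hMV) (Subgroup.inclusion hUV) fun s => by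
      refine MonoidHom.ext fun x => Subtype.ext ?_
      exact hφU s x
  have hΞs : Function.Surjective Ξ := fun x => by
    obtain ⟨u, hu, j, he⟩ := exists_split L.le L.mem x.2
    refine ⟨⟨cM ^ j, ⟨u, hu⟩⟩, Subtype.ext ?_⟩
    show ((cM ^ j : (Q ⊔ Subgroup.zpowers c : Subgroup Ω)) : Ω) * u = x
    rw [Subgroup.coe_zpow, he, hcMdef]
    exact (mem_centralizerIn.1 (zpow_mem L.mem j)).2 u (L.le hu)
  let Ξ' : (Q ⊔ Subgroup.zpowers c : Subgroup Ω) ⋊[φU] U →* G :=
    SemidirectProduct.lift inM inU fun s => by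
      refine MonoidHom.ext fun x => ?_
      show mk (SemidirectProduct.inl (φ (h.emb s) x)) =
        mk (SemidirectProduct.inr (h.emb s)) * mk (SemidirectProduct.inl x) *
          (mk (SemidirectProduct.inr (h.emb s)))⁻¹
      rw [SemidirectProduct.inl_aut, map_mul, map_mul, map_inv, map_inv]
  have hker : ∀ e, Ξ e = 1 ↔ Ξ' e = 1 := by
    intro e
    show Ξ e = 1 ↔ mk (SemidirectProduct.inl e.left) * mk (SemidirectProduct.inr (h.emb e.right)) = 1
    rw [← map_mul, QuotientGroup.mk'_apply, QuotientGroup.eq_one_iff, MonoidHom.mem_range]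
    constructor
    · intro he
      have he' : (e.left : Ω) * e.right = 1 := congrArg Subtype.val he
      have hl : (e.left : Ω) = (e.right : Ω)⁻¹ := eq_inv_of_mul_eq_one_left he'
      have hrQ : (e.right : Ω) ∈ Q := by
        obtain ⟨q, hq, j, hqe⟩ := exists_split L.hQT L.mem e.left.2
        rw [hqe] at hl
        have hcU : c ^ j ∈ U := by
          have := mul_mem (inv_mem (L.qnor.1 hq)) (inv_mem e.right.2)
          rwa [← hl, inv_mul_cancel_left] at this
        have := mul_mem hq (L.hcT (mem_centralizerIn.2 ⟨L.le hcU,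
          fun y hy => (mem_centralizerIn.1 (zpow_mem L.mem_Q j)).2 y hy⟩))
        rw [hl] at this
        exact (inv_mem_iff).1 this
      refine ⟨⟨e.right, hrQ⟩, SemidirectProduct.ext (Subtype.ext ?_) ?_⟩
      · simp only [SemidirectProduct.mul_left, SemidirectProduct.left_inl, SemidirectProduct.right_inl,
          SemidirectProduct.left_inr, map_one, MulAut.one_apply, mul_one]
        exact hl.symm
      · simp only [SemidirectProduct.mul_right, SemidirectProduct.right_inl, SemidirectProduct.right_inr,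
          one_mul]
        rfl
    · rintro ⟨q, hq⟩
      have h1 := congrArg SemidirectProduct.left hq
      have h2 := congrArg SemidirectProduct.right hq
      simp only [SemidirectProduct.mul_left, SemidirectProduct.left_inl, SemidirectProduct.right_inl,
        SemidirectProduct.left_inr, SemidirectProduct.mul_right, SemidirectProduct.right_inr, map_one,
        MulAut.one_apply, mul_one, one_mul] at h1 h2
      have h3 : (⟨q, h.le q.2⟩ : U) = e.right := hinj h2
      refine Subtype.ext ?_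
      show (e.left : Ω) * e.right = 1
      rw [← h1, ← h3]
      exact inv_mul_cancel (q : Ω)
  let j : (U ⊔ Subgroup.zpowers c : Subgroup Ω) →* G := Ξ.liftOfSurjective hΞs
    ⟨Ξ', fun e he => MonoidHom.mem_ker.2 ((hker e).1 (MonoidHom.mem_ker.1 he))⟩
  have hj : ∀ e, j (Ξ e) = Ξ' e := fun e => Ξ.liftOfRightInverse_comp_apply _ _ _ e
  have hji : Function.Injective j := (injective_iff_map_eq_one j).2 fun x hx => by
    obtain ⟨e, rfl⟩ := hΞs x
    rw [hj] at hx
    exact (hker e).2 hx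
  have hjU : ∀ s : U, j ⟨s, hUV s.2⟩ = inU s := fun s => by
    have : (⟨(s : Ω), hUV s.2⟩ : (U ⊔ Subgroup.zpowers c : Subgroup Ω)) =
        Ξ (SemidirectProduct.inr s) := by rw [SemidirectProduct.lift_inr]; rfl
    rw [this, hj, SemidirectProduct.lift_inr]
  have hjM : ∀ x : (Q ⊔ Subgroup.zpowers c : Subgroup Ω), j ⟨x, hMV x.2⟩ = inM x := fun x => by
    have : (⟨(x : Ω), hMV x.2⟩ : (U ⊔ Subgroup.zpowers c : Subgroup Ω)) =
        Ξ (SemidirectProduct.inl x) := by rw [SemidirectProduct.lift_inl]; rfl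
    rw [this, hj, SemidirectProduct.lift_inl]
  have := finite_of_le hVS
  have hPp : IsPGroup p j.range := (L.pgrp.to_le hVS).of_surjective _ j.rangeRestrict_surjective
  have hidx : ¬ p ∣ (j.range).index := by
    have hle : ((h.emb.range).comap SemidirectProduct.rightHom).map mk ≤ j.range := by
      rintro _ ⟨e, ⟨s, hs⟩, rfl⟩
      rw [← SemidirectProduct.inl_left_mul_inr_right e, map_mul]
      refine mul_mem ⟨_, hjM e.left⟩ ⟨⟨s, hUV s.2⟩, ?_⟩
      rw [hjU]
      show mk (SemidirectProduct.inr (h.emb s)) = _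
      rw [hs]
      rfl
    intro hd
    have h1 := hd.trans (Subgroup.index_dvd_of_le hle)
    rw [Subgroup.index_map_eq _ hmks (fun x hx => by
      obtain ⟨q, rfl⟩ := (QuotientGroup.eq_one_iff x).1 hx
      exact ⟨_, rfl⟩), Subgroup.index_comap_of_surjective _ SemidirectProduct.rightHom_surjective,
      ← hTm] at h1
    exact Tm.not_dvd_index h1
  let P' : Sylow p G := hPp.toSylow hidx
  have hP' : (P' : Subgroup G) = j.range := rfl
  set K := inducedFunctor Cfsg.kInfLower (U ⊔ Subgroup.zpowers c)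
  have hKV : K ≤ U ⊔ Subgroup.zpowers c := FusionTransfer.func_le _ _
  have hWP : inducedFunctor Cfsg.kInfLower (P' : Subgroup G) =
      (K.subgroupOf (U ⊔ Subgroup.zpowers c)).map j := by
    show inducedFunctor Cfsg.kInfLower j.range = _
    rw [MonoidHom.range_eq_map j, FunctorControl.map_inducedFunctor hW j hji
      ((L.pgrp.to_le hVS).to_subgroup ⊤)]
    congr 1
    have e := FunctorControl.map_inducedFunctor hW (U ⊔ Subgroup.zpowers c).subtype
      (Subgroup.subtype_injective _) (P := ⊤) ((L.pgrp.to_le hVS).to_subgroup ⊤)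
    rw [← MonoidHom.range_eq_map, Subgroup.range_subtype] at e
    show _ = (inducedFunctor Cfsg.kInfLower (U ⊔ Subgroup.zpowers c)).subgroupOf _
    rw [e]
    exact (Subgroup.comap_map_eq_self_of_injective (Subgroup.subtype_injective _) _).symm
  set y := inM cM with hydef
  have hjy : j ⟨c, le_sup_right (a := U) (Subgroup.mem_zpowers c)⟩ = y := hjM cM
  have hyc : ∀ x ∈ j.range, x * y = y * x := by
    rintro _ ⟨x, rfl⟩
    rw [← hjy, ← map_mul, ← map_mul]
    exact congrArg j (Subtype.ext (commute_sup L.le L.mem x.2))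
  -- the elements of the model normalizing `K∞`
  have hfixN : ∀ l : h.Mdl, mk (SemidirectProduct.inr l) ∈
      Subgroup.normalizer ((inducedFunctor Cfsg.kInfLower (P' : Subgroup G) : Subgroup G) : Set G) →
        φ l cM = cM := by
    intro l₀ hl₀
    let NL : Subgroup h.Mdl := (Subgroup.normalizer
      ((inducedFunctor Cfsg.kInfLower (P' : Subgroup G) : Subgroup G) : Set G)).comap
        (mk.comp SemidirectProduct.inr)
    let B : Subgroup h.Mdl :=
      { carrier := {l | φ l cM = cM}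
        one_mem' := by simp
        mul_mem' := fun {a b} ha hb => by
          show φ (a * b) cM = cM
          rw [map_mul, MulAut.mul_apply, hb, ha]
        inv_mem' := fun {a} ha => by
          show φ a⁻¹ cM = cM
          conv_lhs => rw [← ha]
          rw [map_inv]
          exact MulAut.inv_apply_self _ _ _ }
    show l₀ ∈ B
    have hWn : ∀ s : U, inU s ∈ Subgroup.normalizer
        ((inducedFunctor Cfsg.kInfLower (P' : Subgroup G) : Subgroup G) : Set G) := fun s => by
      refine AlperinFamily.normalizer_le_normalizer_functor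
        (FunctorControl.isConjugacyFunctor_induced hW) P'.isPGroup' ?_
      exact Subgroup.le_normalizer (hP'.ge ⟨_, hjU s⟩)
    have hle : h.emb.range ≤ NL := by rintro _ ⟨s, rfl⟩; exact hWn s
    have hsy : IsSylowIn p h.emb.range NL := by
      refine IsSylowIn.mono (A := ⊤) ⟨le_top, ?_, fun C hC _ hCp => ?_⟩ hle le_top
      · rw [← hTm]; exact Tm.isPGroup'
      · rw [← hTm] at hC ⊢; exact Tm.is_maximal' hCp hC
    refine FusionNormal.autGroup_le_of_sylow_pResidual (H := B) hsy ?_ ?_ hl₀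
    · rintro _ ⟨s, rfl⟩
      refine Subtype.ext ((hφU s cM).trans ?_)
      show (s : Ω) * c * (s : Ω)⁻¹ = c
      rw [← (mem_centralizerIn.1 L.mem).2 _ (L.le s.2), mul_inv_cancel_right]
    intro l hl hco
    have hnorm : ∀ k ∈ wF c U, ∃ hk : k ∈ U, ∃ k' : U, (k' : Ω) ∈ wF c U ∧
        l * h.emb ⟨k, hk⟩ * l⁻¹ = h.emb k' := by
      intro k hk
      have hkin : inU ⟨k, hk.2⟩ ∈ inducedFunctor Cfsg.kInfLower (P' : Subgroup G) := by
        rw [hWP, ← hjU]
        exact ⟨_, hk.1, rfl⟩
      have h1 := (Subgroup.mem_normalizer_iff.1 hl _).1 hkin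
      rw [hWP] at h1
      obtain ⟨x, hx, hxe⟩ := h1
      obtain ⟨⟨m, u⟩, rfl⟩ := hΞs x
      rw [hj] at hxe
      have hxe' : mk (SemidirectProduct.inl m * SemidirectProduct.inr (h.emb u)) =
          mk (SemidirectProduct.inr (l * h.emb ⟨k, hk.2⟩ * l⁻¹)) := by
        rw [map_mul, map_mul SemidirectProduct.inr, map_mul SemidirectProduct.inr, map_mul, map_mul,
          map_inv, map_inv]
        exact hxe
      obtain ⟨q, hq⟩ := hmke.1 hxe'.symm
      have h3 := congrArg SemidirectProduct.left hq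
      have h4 := congrArg SemidirectProduct.right hq
      simp only [SemidirectProduct.mul_left, SemidirectProduct.inv_left, SemidirectProduct.left_inr,
        SemidirectProduct.left_inl, SemidirectProduct.right_inr, SemidirectProduct.right_inl,
        SemidirectProduct.mul_right, SemidirectProduct.inv_right, inv_one, map_one, one_mul, mul_one,
        MulAut.one_apply] at h3 h4
      have hmQ : (m : Ω) ∈ Q := by
        obtain ⟨l', hl'⟩ : ∃ l', l' = (l * h.emb ⟨k, hk.2⟩ * l⁻¹)⁻¹ := ⟨_, rfl⟩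
        rw [← hl'] at h3
        have h5 : φ l' ((φ l').symm ⟨(q : Ω), hQM q.2⟩⁻¹) = φ l' m := by
          rw [MulEquiv.apply_symm_apply]; exact h3
        have h6 : m = ⟨(((h.proj l' : MulAut Q))⁻¹ q⁻¹ : Q), hQM (Subtype.mem _)⟩ := by
          rw [← (φ l').injective h5]
          apply (φ l').injective
          rw [MulEquiv.apply_symm_apply, hφQ]
          exact Subtype.ext (by rw [MulAut.apply_inv_self]; rfl)
        rw [h6]
        exact Subtype.mem (α := Ω) _
      have hk'U : (m : Ω) * u ∈ U := mul_mem (L.qnor.1 hmQ) u.2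
      refine ⟨hk.2, ⟨(m : Ω) * u, hk'U⟩, ⟨hx, hk'U⟩, ?_⟩
      have h7 : mk (SemidirectProduct.inr (h.emb ⟨(m : Ω) * u, hk'U⟩)) =
          mk (SemidirectProduct.inr (l * h.emb ⟨k, hk.2⟩ * l⁻¹)) := by
        rw [← hxe', map_mul]
        exact (hjU _).symm.trans (hj ⟨m, u⟩)
      obtain ⟨q', hq'⟩ := hmke.1 h7
      rw [← map_inv, ← map_mul] at hq'
      have h8 := congrArg SemidirectProduct.left hq'
      have h9 := congrArg SemidirectProduct.right hq'
      rw [SemidirectProduct.left_inr] at h8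
      rw [SemidirectProduct.right_inr] at h9
      have hq1 : q' = 1 := Subtype.ext (inv_eq_one.1 (congrArg Subtype.val h8))
      have h10 : (δ q').right = 1 := by rw [hq1, map_one]; rfl
      exact (inv_mul_eq_one.1 (h9.symm.trans h10)).symm
    -- the induced map of `E'`
    have hQw : Q ⊔ wF c U ≤ U := sup_le L.qnor.1 (wF_le c U)
    have hrange : ∀ (x : Ω) (hx : x ∈ Q ⊔ wF c U), l * h.emb ⟨x, hQw hx⟩ * l⁻¹ ∈ h.emb.range := by
      intro x hx
      have hle : Q ⊔ wF c U ≤
          (h.emb.range.comap ((MulAut.conj l).toMonoidHom.comp h.emb)).map U.subtype := by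
        refine sup_le (fun q hq => ⟨⟨q, L.qnor.1 hq⟩, ⟨_, (h.emb_conj l ⟨q, hq⟩).symm⟩, rfl⟩)
          fun k hk => ?_
        obtain ⟨hkU, k', -, e⟩ := hnorm k hk
        exact ⟨⟨k, hkU⟩, ⟨k', e.symm⟩, rfl⟩
      obtain ⟨⟨x', hx'⟩, h', rfl⟩ := hle hx
      exact h'
    obtain ⟨f, hf, hfe⟩ := conj_map hι hQw l hrange
    have hfw : ∀ x ∈ wF c U, f x ∈ wF c U := by
      intro x hx
      obtain ⟨hxU, k', hk', e⟩ := hnorm x hx
      obtain ⟨hfU, e'⟩ := hfe x (le_sup_right (a := Q) hx)
      have := hinj (e'.trans e)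
      rw [show f x = k' from congrArg Subtype.val this]
      exact hk'
    have hfQ : ∀ q : Q, f q = (((h.proj l : MulAut Q) q : Q) : Ω) := fun q => by
      obtain ⟨hfU, e'⟩ := hfe q (le_sup_left (b := wF c U) q.2)
      have := hinj (e'.trans (h.emb_conj l q))
      exact congrArg Subtype.val this
    obtain ⟨g, hg, hge, hgc⟩ := hw _ f hf le_sup_right hfw
    -- restriction to `Q⟨c⟩`
    have hMsub : Q ⊔ Subgroup.zpowers c ≤ (Q ⊔ wF c U) ⊔ Subgroup.zpowers c :=
      sup_le_sup_right le_sup_left _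
    have hgM := hg.mono hMsub
    have hgQ : ∀ q ∈ Q, g q ∈ Q := fun q hq => by
      rw [hge q (le_sup_left (b := wF c U) hq), hfQ ⟨q, hq⟩]
      exact Subtype.mem _
    have hgmem : ∀ x ∈ Q ⊔ Subgroup.zpowers c, g x ∈ Q ⊔ Subgroup.zpowers c := fun x hx =>
      hgM.forall_mem_sup le_sup_left le_sup_right (fun w hw => hQM (hgQ w hw))
        (fun w hw => by rw [hgc w hw]; exact le_sup_right (a := Q) hw) hx
    obtain ⟨γ, hγ, hγe⟩ := exists_aut_of_isIso (F := F) (f := g) ⟨hgM, eq_of_le_of_card hMS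
      (hgM.img_le le_rfl hgmem) (hgM.card_img le_rfl).ge⟩
    have hγe' : ∀ x ∈ Q ⊔ Subgroup.zpowers c, autFn γ x = g x :=
      fun x hx => (autFn_apply γ hx).trans (hγe ⟨x, hx⟩)
    have hγmod : ∀ x ∈ Q ⊔ Subgroup.zpowers c, x⁻¹ * autFn γ x ∈ Q := by
      intro x hx
      rw [hγe' x hx]
      refine mod_of_gen hgM (L.M_le.trans (dom_le_normalizerIn L.hQS)) (fun w hw => ?_)
        (fun w hw => ?_) x hx
      · exact mul_mem (inv_mem hw) (hgQ w hw)
      · rw [hgc w hw, inv_mul_cancel]; exact one_mem _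
    have hQeq : ∀ q ∈ Q, autFn γ q = autFn (L.lam (h.proj l)) q := fun q hq => by
      rw [hγe' q (hQM hq), hge q (le_sup_left (b := wF c U) hq), hfQ ⟨q, hq⟩, L.lam_eq _ hq,
        autFn_apply _ hq]
    have hlift : IsLift F E Q (Q ⊔ Subgroup.zpowers c) γ :=
      ⟨hγ, hγmod, (gam_le_lifts L.hTS L.hQT hQM (L.lam_mem (h.proj l))).2.2.congr
        fun q hq => (hQeq q hq).symm⟩
    have hγn : γ ^ orderOf l = 1 := by
      refine MulEquiv.ext fun x => Subtype.ext ?_
      rw [← autFn_apply (γ ^ orderOf l) x.2, autFn_pow γ _ x.2, iterate_congr hgmem hγe' _ x x.2]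
      have hid : ∀ z ∈ Q ⊔ Subgroup.zpowers c, g^[orderOf l] z = z := by
        have hgi := isMap_iterate hgM hgmem (orderOf l)
        intro z hz
        obtain ⟨q, hq, i, rfl⟩ := exists_split L.hQT L.mem hz
        have hci := zpow_mem (le_sup_right (a := Q) (Subgroup.mem_zpowers c)) i
        rw [hgi.map_mul (hQM hq) hci,
          Function.iterate_fixed (hgc _ (zpow_mem (Subgroup.mem_zpowers c) i))]
        congr 1
        have hle : ∀ w ∈ Q, autFn γ w = g w := fun w hw => hγe' w (hQM hw)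
        have hpe : ∀ w ∈ Q, g w = autFn (h.proj l : MulAut Q) w := fun w hw => by
          rw [← hle w hw, hQeq w hw, L.lam_eq _ hw]
        rw [iterate_congr (fun w hw => autFn_mem _ hw) hpe _ q hq, ← autFn_pow _ _ hq]
        rw [← SubgroupClass.coe_pow, ← _root_.map_pow, pow_orderOf_eq_one, map_one, autFn_apply _ hq]
        rfl
      exact hid x x.2
    have hT : Tame F E p Q (Q ⊔ Subgroup.zpowers c) γ :=
      ⟨hlift, Or.inl (coprime_of_pow_eq_one hco hγn)⟩
    have heq : L.lam (h.proj l) = γ :=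
      L.unique (L.lam_mem _) (Subgroup.subset_closure hT) fun q hq => (hQeq q hq).symm
    show φ l cM = cM
    refine Subtype.ext ?_
    show ((L.lam (h.proj l) cM : (Q ⊔ Subgroup.zpowers c : Subgroup Ω)) : Ω) = c
    rw [heq, ← autFn_apply γ hcM, hγe' c hcM]
    exact hgc c (Subgroup.mem_zpowers c)
  -- `y` is central in `N(K∞)`
  have hyN : ∀ n ∈ Subgroup.normalizer
      ((inducedFunctor Cfsg.kInfLower (P' : Subgroup G) : Subgroup G) : Set G), n * y = y * n := by
    intro n hn
    obtain ⟨e, rfl⟩ := hmks n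
    rw [← SemidirectProduct.inl_left_mul_inr_right e, map_mul] at hn ⊢
    have hmN : inM e.left ∈ Subgroup.normalizer
        ((inducedFunctor Cfsg.kInfLower (P' : Subgroup G) : Subgroup G) : Set G) :=
      AlperinFamily.normalizer_le_normalizer_functor (FunctorControl.isConjugacyFunctor_induced hW)
        P'.isPGroup' (Subgroup.le_normalizer (hP'.ge ⟨_, hjM e.left⟩))
    have hl : mk (SemidirectProduct.inr e.right) ∈ Subgroup.normalizer
        ((inducedFunctor Cfsg.kInfLower (P' : Subgroup G) : Subgroup G) : Set G) := by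
      have := mul_mem (inv_mem hmN) hn
      rwa [show inM e.left = mk (SemidirectProduct.inl e.left) from rfl, inv_mul_cancel_left] at this
    have h1 := hfixN _ hl
    have h2 : mk (SemidirectProduct.inr e.right) * y = y * mk (SemidirectProduct.inr e.right) := by
      have := congrArg mk (SemidirectProduct.inl_aut (φ := φ) e.right cM)
      rw [h1, map_mul, map_mul, map_inv, map_inv] at this
      exact (eq_mul_inv_iff_mul_eq.1 this).symm
    have h3 : mk (SemidirectProduct.inl e.left) * y = y * mk (SemidirectProduct.inl e.left) :=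
      hyc _ ⟨_, hjM e.left⟩
    rw [mul_assoc, h2, ← mul_assoc, h3, mul_assoc]
  -- weak closure
  obtain ⟨-, T₀, -, hT₀p, hT₀d, hT₀w⟩ := Cfsg.Agent.S1985.result (G := G) hp
  let T₀' : Sylow p G := hT₀p.toSylow (by rwa [Subgroup.relIndex_top_right] at hT₀d)
  obtain ⟨g, hg⟩ := MulAction.exists_smul_eq G P' T₀'
  have hT₀e : T₀ = (P' : Subgroup G).map (MulAut.conj g).toMonoidHom := by
    have h0 : (T₀' : Subgroup G) = T₀ := rfl
    rw [← h0, ← hg]
    rfl
  have hy₀ : MulAut.conj g y ∈ T₀ ⊓ Subgroup.centralizer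
      ((⊤ ⊓ Subgroup.normalizer ((inducedFunctor Cfsg.kInfLower T₀ : Subgroup G) : Set G) :
        Subgroup G) : Set G) := by
    refine ⟨hT₀e ▸ ⟨y, ⟨_, hjy⟩, rfl⟩, Subgroup.mem_centralizer_iff.2 fun n hn => ?_⟩
    have hn' : (MulAut.conj g).symm n ∈ Subgroup.normalizer
        ((inducedFunctor Cfsg.kInfLower (P' : Subgroup G) : Subgroup G) : Set G) := by
      have hn2 := hn.2
      rw [hT₀e, FunctorControl.map_inducedFunctor hW _ (MulAut.conj g).injective P'.isPGroup'] at hn2
      have h1 : (MulAut.conj g).symm n ∈ (Subgroup.normalizer (((inducedFunctor Cfsg.kInfLower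
          (P' : Subgroup G)).map (MulAut.conj g).toMonoidHom : Subgroup G) : Set G)).comap
            (MulAut.conj g).toMonoidHom := by
        rw [Subgroup.mem_comap, MulEquiv.coe_toMonoidHom, MulEquiv.apply_symm_apply]
        exact hn2
      rwa [Subgroup.comap_normalizer_eq_of_surjective _ (MulAut.conj g).surjective,
        Subgroup.comap_map_eq_self_of_injective (MulAut.conj g).injective] at h1
    have := congrArg (MulAut.conj g) (hyN _ hn')
    rwa [map_mul, map_mul, MulEquiv.apply_symm_apply] at this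
  intro a
  obtain ⟨l, rfl⟩ := h.proj_surjective a
  set g' := mk (SemidirectProduct.inr l)
  have h1 : g' * y * g'⁻¹ = inM (φ l cM) := by
    show _ = mk (SemidirectProduct.inl (φ l cM))
    rw [SemidirectProduct.inl_aut, map_mul, map_mul, map_inv]
    rfl
  have h2 := hT₀w _ hy₀ (g * g' * g⁻¹) (Subgroup.mem_top _) (by
    rw [show g * g' * g⁻¹ * MulAut.conj g y * (g * g' * g⁻¹)⁻¹ = MulAut.conj g (g' * y * g'⁻¹) by
      simp only [MulAut.conj_apply]; group, h1, hT₀e]
    exact ⟨_, ⟨_, hjM _⟩, rfl⟩)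
  rw [show g * g' * g⁻¹ * MulAut.conj g y * (g * g' * g⁻¹)⁻¹ = MulAut.conj g (g' * y * g'⁻¹) by
    simp only [MulAut.conj_apply]; group, h1] at h2
  have h3 : inM (φ l cM) = inM cM := (MulAut.conj g).injective h2
  rw [← hjM, ← hjM] at h3
  have h4 := congrArg Subtype.val (hji h3)
  rw [autFn_apply _ hcM]
  exact h4

end Loc

theorem localHyp_wF [Finite S] [Fact p.Prime] (hp : p ≠ 2) (hS : IsPGroup p S) (hF : F.IsSaturated p)
    (hE : E.IsNormalIn F p) (hc : c ∈ centralizerIn S T) :
    LocalHyp F E p (Subgroup.zpowers c) (wF c) := by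
  intro U E' Q hUT hs hsub hQ hQc hQec hw
  have L : Loc F E p E' Q c := ⟨inferInstance, inferInstance, hS, hF, hE, hUT, hs, hsub, hQ, hQc, hQec, hc⟩
  exact L.all_fix fun α hα => ⟨L.lam ⟨α, hα⟩, L.lam_mem _, fun x hx => L.lam_eq _ hx,
    L.lifts_fix hp hw ⟨α, hα⟩⟩

/-- A translate of `c` by an element of `Z(T)` is centralized by `E`. -/
theorem centralizes_shift [Finite S] [Fact p.Prime] (hp : p ≠ 2) (hS : IsPGroup p S)
    (hF : F.IsSaturated p) (hE : E.IsNormalIn F p) (hc : c ∈ centralizerIn S T) :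
    ∃ z ∈ T, c * z ∈ centralizerIn S T ∧ Centralizes F E (Subgroup.zpowers (c * z)) := by
  have hEs := hE.1.1
  have hTS : T ≤ S := hE.1.2.2.2.1.1
  have := finite_of_le hTS
  have hT : IsPGroup p T := hS.to_le hTS
  set W := wF c T with hWdef
  have hWT : W ≤ T := wF_le c T
  have hWN : normalizerIn T W = T := le_antisymm inf_le_left
    ((normalizerIn_self T).ge.trans (wF_normalizer hS hTS le_rfl hc))
  have hWfn : E.IsFullyNormalized W := ⟨hWT, fun R _ => hWN.symm ▸ Subgroup.card_le_of_le inf_le_left⟩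
  have hWc : E.IsCentric W := centric_of_fullyCentralized
    (fullyCentralized_of_fullyNormalized hT hEs hWfn) (wF_centralizer hS hTS le_rfl hc)
  obtain ⟨N, hN⟩ := exists_normalizerSystem (F := E) hWT
  have hWn := normal_in_normalizer hWT hN
  have : Finite (normalizerIn T W) := finite_of_le (S := T) inf_le_left
  have hWcN : N.IsCentric W := ⟨hWn.1, fun R hR => by
    obtain ⟨f, hf⟩ := isConj_iff.1 hR
    rw [show R = W from eq_of_le_of_card hWT (fun y hy => by
      obtain ⟨x, hx, rfl⟩ := hf.exists_eq hy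
      exact FusionChain.mapsTo_of_normal hWn hf.1 le_rfl x hx) hf.card_eq.ge]
    exact fun x hx => wF_centralizer hS hTS le_rfl hc
      (mem_centralizerIn.2 ⟨hx.1.1, (mem_centralizerIn.1 hx).2⟩)⟩
  have hNs := isSaturated_normalizer hT hEs hWfn hN
  have hNsub : N.IsSubsystemOf E := sub_normalizer hN
  have L : Loc F E p N W c :=
    ⟨inferInstance, inferInstance, hS, hF, hE, inf_le_left, hNs, hNsub, hWn, hWcN, hWc, hc⟩
  obtain ⟨z, hzW, hzC, hfix⟩ := L.exists_shift hWN.ge
  have hzT : z ∈ T := hWT hzW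
  have hc' : c * z ∈ centralizerIn S T := mul_mem hc hzC
  have L' : Loc F E p N W (c * z) :=
    ⟨inferInstance, inferInstance, hS, hF, hE, inf_le_left, hNs, hNsub, hWn, hWcN, hWc, hc'⟩
  have hM : W ⊔ Subgroup.zpowers (c * z) = W ⊔ Subgroup.zpowers c :=
    le_antisymm (sup_le le_sup_left ((Subgroup.zpowers_le).2 (mul_mem
      (le_sup_right (a := W) (Subgroup.mem_zpowers c)) (le_sup_left (b := Subgroup.zpowers c) hzW))))
      (sup_le le_sup_left ((Subgroup.zpowers_le).2 (by
        have := mul_mem (le_sup_right (a := W) (Subgroup.mem_zpowers (c * z)))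
          (le_sup_left (b := Subgroup.zpowers (c * z)) (inv_mem hzW))
        rwa [mul_inv_cancel_right] at this)))
  have hall := L'.all_fix fun α hα => by
    rw [hM]
    exact ⟨L.lam ⟨α, hα⟩, L.lam_mem _, fun x hx => L.lam_eq _ hx, hfix _⟩
  have hTe : T ⊔ Subgroup.zpowers (c * z) = T ⊔ Subgroup.zpowers c :=
    le_antisymm (sup_le le_sup_left ((Subgroup.zpowers_le).2 (mul_mem
      (le_sup_right (a := T) (Subgroup.mem_zpowers c)) (le_sup_left (b := Subgroup.zpowers c) hzT))))
      (sup_le le_sup_left ((Subgroup.zpowers_le).2 (by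
        have := mul_mem (le_sup_right (a := T) (Subgroup.mem_zpowers (c * z)))
          (le_sup_left (b := Subgroup.zpowers (c * z)) (inv_mem hzT))
        rwa [mul_inv_cancel_right] at this)))
  have hwW : wF (c * z) T = W := by rw [hWdef, wF, wF, hTe]
  refine ⟨z, hzT, hc', (Subgroup.zpowers_le).2 hc', fun P f hf => ?_⟩
  refine fix_all hT (wF (c * z)) (fun U _ => wF_le _ U) (fun U hU => wF_normalizer hS hTS hU hc')
    (fun U hU => wF_centralizer hS hTS hU hc') (localHyp_wF hp hS hF hE hc') T E le_rfl hEs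
    (fun P φ hφ => hφ) ⟨⊥, FusionChain.isNormal_iff.2 ⟨bot_le, fun P f hf => ⟨f, by rwa [sup_bot_eq],
      fun _ _ => rfl, fun q hq => by rw [Subgroup.mem_bot.1 hq, hf.map_one]; exact one_mem _⟩⟩,
      fun R _ hR => hR⟩ (fun M g hg hWM hgW => ?_) P f hf
  rw [hwW] at hWM hgW
  exact hall M g ((isMap_normalizer_iff hWT hN).2 ⟨hWN.symm ▸ hg.le,
    fun x hx => hWN.symm ▸ hg.mem hx, g, hg.mono (sup_le le_rfl hWM), fun _ _ => rfl, hgW⟩)

end Cfsg.Agent.FusionFix
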