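import Cfsg.Agent.Lib.FusionNormalCent.Centralizer
import Cfsg.Agent.Lib.Fusion.Induction
import Cfsg.Agent.Lib.Fusion.LocalModel

/-
Functors controlling which maps of `E` extend to maps of `F` fixing a subgroup `X` pointwise.
Main results: `Fix` closure lemmas, `centric_of_normalizer`, `fix_all`.
-/

set_option autoImplicit false

namespace Cfsg.Agent.FusionFix

open Cfsg Cfsg.FusionSystem Cfsg.Agent.Fusion Cfsg.Agent.FusionNormalCent
open scoped Classical

universe u

variable {Ω : Type u} [Group Ω] {S T U : Subgroup Ω} {F : FusionSystem S} {E : FusionSystem T}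
  {E' : FusionSystem U} {p : ℕ} {X : Subgroup Ω}

theorem fix_congr {P : Subgroup Ω} {f f' : Ω → Ω} (h : Fix F X P f) (e : ∀ x ∈ P, f x = f' x) :
    Fix F X P f' :=
  let ⟨g, hg, h1, h2⟩ := h
  ⟨g, hg, fun x hx => (h1 x hx).trans (e x hx), h2⟩

theorem fix_mono {P P' : Subgroup Ω} {f : Ω → Ω} (h : Fix F X P f) (hle : P' ≤ P) :
    Fix F X P' f :=
  let ⟨g, hg, h1, h2⟩ := h
  ⟨g, hg.mono (sup_le_sup_right hle X), fun x hx => h1 x (hle hx), h2⟩

theorem fix_comp {P P' : Subgroup Ω} {f f' : Ω → Ω} (hfP : ∀ x ∈ P, f x ∈ P') (h : Fix F X P f)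
    (h' : Fix F X P' f') : Fix F X P fun x => f' (f x) := by
  obtain ⟨G, hG, h1, h2⟩ := h
  obtain ⟨G', hG', h1', h2'⟩ := h'
  refine ⟨fun x => G' (G x), hG.comp hG' fun x hx => hG.forall_mem_sup le_sup_left le_sup_right
    (fun w hw => le_sup_left (b := X) (by rw [h1 w hw]; exact hfP w hw))
    (fun w hw => le_sup_right (a := P') ((h2 w hw).symm ▸ hw)) hx, fun x hx => ?_, fun y hy => ?_⟩
  · show G' (G x) = f' (f x)
    rw [h1 x hx, h1' _ (hfP x hx)]
  · show G' (G y) = y
    rw [h2 y hy, h2' y hy]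

theorem fix_symm {P R : Subgroup Ω} {f g : Ω → Ω} (hfP : ∀ x ∈ P, f x ∈ R)
    (hgl : ∀ x ∈ P, g (f x) = x) (hsurj : ∀ y ∈ R, ∃ x ∈ P, f x = y) (h : Fix F X P f) :
    Fix F X R g := by
  obtain ⟨G, hG, h1, h2⟩ := h
  obtain ⟨Gi, hGi, hGl, -⟩ := hG.isIso.symm
  have hle : R ⊔ X ≤ img G (P ⊔ X) := sup_le (fun y hy => by
    obtain ⟨x, hx, rfl⟩ := hsurj y hy
    exact (hG.mem_img_iff le_rfl).2 ⟨x, le_sup_left (b := X) hx, h1 x hx⟩)
    fun y hy => (hG.mem_img_iff le_rfl).2 ⟨y, le_sup_right (a := P) hy, h2 y hy⟩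
  refine ⟨Gi, hGi.1.mono hle, fun y hy => ?_, fun y hy => ?_⟩
  · obtain ⟨x, hx, rfl⟩ := hsurj y hy
    have := hfP x hx
    rw [hgl x hx, ← h1 x hx, hGl x (le_sup_left (b := X) hx)]
  · conv_lhs => rw [← h2 y hy]
    exact hGl y (le_sup_right (a := P) hy)

/-- A centric subgroup of `N(X)` containing the fully normalized `X` is centric. -/
theorem centric_of_normalizer [Finite U] [Fact p.Prime] (hU : IsPGroup p U) (hs : E'.IsSaturated p)
    {X : Subgroup Ω} (hX : E'.IsFullyNormalized X) {N : FusionSystem (normalizerIn U X)}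
    (hN : E'.IsNormalizerSystem X N) {R : Subgroup Ω} (hXR : X ≤ R) (hR : N.IsCentric R) :
    E'.IsCentric R := by
  refine ⟨hR.1.trans inf_le_left, fun R' hR' z hz => ?_⟩
  obtain ⟨φ, hφ⟩ := isConj_iff.1 hR'
  set X' := img φ X
  have hcX : E'.IsConj X' X := isConj_symm (isConj_iff.2 ⟨φ, hφ.1.mono hXR, rfl⟩)
  obtain ⟨h, hh, hhX, hhN⟩ := exists_normalizer_map hU (fullyAutomized_of_fullyNormalized hU hs hX)
    (receptive_of_fullyNormalized hU hs hX) hcX
  have hX'R : X' ≤ R' := fun y hy => by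
    obtain ⟨x, hx, rfl⟩ := (hφ.1.mem_img_iff hXR).1 hy
    exact hφ.mem (hXR hx)
  have hR'N : R' ≤ normalizerIn U X' := fun y hy => by
    obtain ⟨x, hx, rfl⟩ := hφ.exists_eq hy
    exact map_normalizerIn hφ.1 hXR rfl hx (hR.1 hx)
  have hzN : z ∈ normalizerIn U X' := centralizerIn_le_normalizerIn U X'
    (mem_centralizerIn.2 ⟨hz.1, fun y hy => (mem_centralizerIn.1 hz).2 y (hX'R hy)⟩)
  have hψ : IsMap E' R fun x => h (φ x) := hφ.1.comp hh fun x hx => hR'N (hφ.mem hx)
  have hψN : IsMap N R fun x => h (φ x) := (isMap_normalizer_iff hX.1 hN).2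
    ⟨hR.1, fun x hx => hhN _ (hR'N (hφ.mem hx)), _, hψ.mono (sup_le le_rfl hXR), fun _ _ => rfl,
      fun x hx => hhX ▸ hh.mem_img (hφ.1.mem_img hx)⟩
  have hzR := hR.2 _ (isConj_iff.2 ⟨_, hψN.isIso⟩) (show h z ∈ centralizerIn (normalizerIn U X)
      (img (fun x => h (φ x)) R) from mem_centralizerIn_of_conj (hhN z hzN) fun y hy => by
    obtain ⟨x, hx, rfl⟩ := (hψ.mem_img_iff le_rfl).1 hy
    show h z * h (φ x) * (h z)⁻¹ = h (φ x)
    rw [← hh.map_conj hzN (hR'N (hφ.mem hx)), centralizerIn_conj hz (hφ.mem hx)])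
  obtain ⟨x, hx, hxe⟩ := (hψ.mem_img_iff le_rfl).1 hzR
  have : φ x = z := hh.inj (hR'N (hφ.mem hx)) hzN hxe
  exact this ▸ hφ.mem hx

/-- The hypothesis tested at `w U`. -/
def WHyp (F : FusionSystem S) (X : Subgroup Ω) (w : Subgroup Ω → Subgroup Ω)
    (E' : FusionSystem U) : Prop :=
  ∀ M f, IsMap E' M f → w U ≤ M → (∀ x ∈ w U, f x ∈ w U) → Fix F X M f

/-- Centric subgroups over a normal subgroup of `E'` are centric in `E`. -/
def Inv (E : FusionSystem T) (E' : FusionSystem U) : Prop :=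
  ∃ Q, E'.IsNormal Q ∧ ∀ R, Q ≤ R → E'.IsCentric R → E.IsCentric R

/-- The local condition in the constrained systems. -/
def LocalHyp (F : FusionSystem S) (E : FusionSystem T) (p : ℕ) (X : Subgroup Ω)
    (w : Subgroup Ω → Subgroup Ω) : Prop :=
  ∀ (U : Subgroup Ω) (E' : FusionSystem U) (Q : Subgroup Ω), U ≤ T → E'.IsSaturated p →
    E'.IsSubsystemOf E → E'.IsNormal Q → E'.IsCentric Q → E.IsCentric Q → WHyp F X w E' →
      ∀ P f, IsMap E' P f → Fix F X P f

/-- A functor with the local condition controls the maps fixing `X`. -/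
theorem fix_all [Finite T] [Fact p.Prime] (hT : IsPGroup p T) (w : Subgroup Ω → Subgroup Ω)
    (hwle : ∀ U, U ≤ T → w U ≤ U)
    (hwN : ∀ U, U ≤ T → normalizerIn T U ≤ normalizerIn T (w U))
    (hwC : ∀ U, U ≤ T → centralizerIn U (w U) ≤ w U)
    (hloc : LocalHyp F E p X w)
    (U : Subgroup Ω) (E' : FusionSystem U) (hUT : U ≤ T) (hs : E'.IsSaturated p)
    (hsub : E'.IsSubsystemOf E) (hinv : Inv E E') (hw : WHyp F X w E') :
    ∀ P f, IsMap E' P f → Fix F X P f := by
  suffices h : ∀ n m, ∀ (U : Subgroup Ω) (E' : FusionSystem U), Nat.card U = n →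
      (graphs E').ncard = m → U ≤ T → E'.IsSaturated p → E'.IsSubsystemOf E → Inv E E' →
        WHyp F X w E' → ∀ P f, IsMap E' P f → Fix F X P f from
    h _ _ U E' rfl rfl hUT hs hsub hinv hw
  intro n
  induction n using Nat.strong_induction_on with
  | _ n ihn =>
  intro m
  induction m using Nat.strong_induction_on with
  | _ m ihm =>
  intro U E' hcn hcm hUT hs hsub hinv hw
  have := finite_of_le hUT
  have hU : IsPGroup p U := hT.to_le hUT
  have ih : ∀ (V : Subgroup Ω) (D : FusionSystem V), Smaller D E' → V ≤ T → D.IsSaturated p →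
      D.IsSubsystemOf E → Inv E D → WHyp F X w D → ∀ P f, IsMap D P f → Fix F X P f := by
    intro V D hlt
    rcases hlt with h | ⟨h, h'⟩
    · exact ihn _ (hcn ▸ h) _ V D rfl rfl
    · exact ihm _ (hcm ▸ h') V D (h.trans hcn) rfl
  obtain ⟨Q₀, hQ₀, hQ₀c⟩ := hinv
  obtain ⟨Q, ⟨hQ, hQ₀Q⟩, hmax⟩ : ∃ V, (E'.IsNormal V ∧ Q₀ ≤ V) ∧
      ∀ V', E'.IsNormal V' → V ≤ V' → V' = V := by
    suffices h : ∀ d, ∀ V, E'.IsNormal V → Q₀ ≤ V → Nat.card U - Nat.card V = d →
        ∃ V, (E'.IsNormal V ∧ Q₀ ≤ V) ∧ ∀ V', E'.IsNormal V' → V ≤ V' → V' = V from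
      h _ Q₀ hQ₀ le_rfl rfl
    intro d
    induction d using Nat.strong_induction_on with
    | _ d ihd =>
    intro V hV hle hd
    by_cases h : ∀ V', E'.IsNormal V' → V ≤ V' → V' = V
    · exact ⟨V, ⟨hV, hle⟩, h⟩
    push Not at h
    obtain ⟨V', hV', hVV', hne⟩ := h
    have := finite_of_le hV'.1
    have h1 := Subgroup.card_le_of_le hV'.1
    have h2 : Nat.card V < Nat.card V' := lt_of_le_of_ne (Subgroup.card_le_of_le hVV') fun e =>
      hne (Subgroup.eq_of_le_of_card_ge hVV' e.ge).symm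
    exact ihd _ (by omega) V' hV' (hle.trans hVV') rfl
  have hQn := normalizes_of_stronglyClosed (Fusion.stronglyClosed_of_normal hQ)
  by_cases hc : centralizerIn U Q ≤ Q
  · have hcen : E'.IsCentric Q := ⟨hQ.1, fun R hR => by
      obtain ⟨g, hg⟩ := isConj_iff.1 hR
      rwa [show R = Q from eq_of_le_of_card hQ.1 (fun y hy => by
        obtain ⟨x, hx, rfl⟩ := hg.exists_eq hy
        exact FusionChain.mapsTo_of_normal hQ hg.1 le_rfl x hx) hg.card_eq.ge]⟩
    exact hloc U E' Q hUT hs hsub hQ hcen (hQ₀c Q hQ₀Q hcen) hw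
  -- normalizer systems
  have hnormSys : ∀ Y : Subgroup Ω, E'.IsFullyNormalized Y → Q ≤ Y → ¬ E'.IsNormal Y →
      ∀ N : FusionSystem (normalizerIn U Y), E'.IsNormalizerSystem Y N → WHyp F X w N →
        ∀ P f, IsMap N P f → Fix F X P f := by
    intro Y hY hQY hnn N hN hwN'
    refine ih _ N (smaller_normalizer hY.1 hnn hN) (inf_le_left.trans hUT)
      (isSaturated_normalizer hU hs hY hN) (fun P φ hφ => hsub P (sub_normalizer hN P hφ))
      ⟨Y, normal_in_normalizer hY.1 hN, fun R hYR hR =>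
        hQ₀c R (hQ₀Q.trans (hQY.trans hYR)) (centric_of_normalizer hU hs hY hN hYR hR)⟩ hwN'
  have hne : ∀ Y : Subgroup Ω, Q < Y → ¬ E'.IsNormal Y := fun Y hY hn => hY.ne (hmax Y hn hY.le).symm
  have hbig : ∀ d t, Nat.card U ≤ t + d → ∀ P f, IsMap E' P f → t < Nat.card P → Fix F X P f := by
    intro d
    induction d using Nat.strong_induction_on with
    | _ d ihd =>
    intro t hd P f hf ht
    have hkey : ∀ j, ∀ Y : Subgroup Ω, Nat.card U - Nat.card (normalizerIn U Y) = j →
        E'.IsFullyNormalized Y → Q < Y → t < Nat.card (normalizerIn U Y) →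
        ∀ M f, IsMap E' M f → Y ≤ M → M ≤ normalizerIn U Y →
          (∀ x ∈ M, f x ∈ normalizerIn U Y) → (∀ x ∈ Y, f x ∈ Y) → Fix F X M f := by
      intro j
      induction j using Nat.strong_induction_on with
      | _ j ihj =>
      intro Y hj hY hQY htY M f hf hYM hM hfM hfY
      obtain ⟨N, hN⟩ : ∃ N : FusionSystem (normalizerIn U Y), E'.IsNormalizerSystem Y N :=
        exists_normalizerSystem (F := E') hY.1
      refine hnormSys Y hY hQY.le (hne Y hQY) N hN ?_ M f ((isMap_normalizer_iff hY.1 hN).2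
        ⟨hM, hfM, f, hf.mono (sup_le le_rfl hYM), fun _ _ => rfl, hfY⟩)
      by_cases hYU : normalizerIn U Y = U
      · intro M' f' hf' hwM hfw
        exact hw M' f' (isMap_sub (sub_normalizer hN) hf')
          ((congrArg w hYU).ge.trans hwM) fun x hx => (congrArg w hYU).le
            (hfw x ((congrArg w hYU).ge hx))
      set V := normalizerIn U Y with hV
      have hVU : V ≤ U := inf_le_left
      have hVT : V ≤ T := hVU.trans hUT
      have : Finite V := finite_of_le hVU
      have hQV : Q ≤ V := hQY.le.trans (le_normalizerIn hY.1)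
      have hwV := hwle V hVT
      set Z := Q ⊔ w V
      have hZV : Z ≤ V := sup_le hQV hwV
      have hZU := hZV.trans hVU
      have hQZ : Q < Z := by
        refine lt_of_le_of_ne le_sup_left fun e => hc fun x hx => ?_
        have hwQ : w V ≤ Q := by rw [e]; exact le_sup_right
        have hCV : ∀ y ∈ centralizerIn U Q, y ∈ V → y ∈ Q := fun y hy hyV =>
          hwQ (hwC V hVT (mem_centralizerIn.2
            ⟨hyV, fun u hu => (mem_centralizerIn.1 hy).2 u (hwQ hu)⟩))
        refine hCV x hx ?_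
        by_contra hxV
        set C := centralizerIn U Q
        have hle : V ≤ Subgroup.normalizer (C : Set Ω) := by
          have h1 : ∀ v ∈ U, ∀ y ∈ C, v * y * v⁻¹ ∈ C := by
            intro v hv y hy
            refine mem_centralizerIn_of_conj (mul_mem (mul_mem hv hy.1) (inv_mem hv)) fun u hu => ?_
            have hu' : v⁻¹ * u * v ∈ Q := by
              have := (Subgroup.mem_normalizer_iff.1 (hQn (inv_mem hv)) u).1 hu
              simpa using this
            calc v * y * v⁻¹ * u * (v * y * v⁻¹)⁻¹ = v * (y * (v⁻¹ * u * v) * y⁻¹) * v⁻¹ := by group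
              _ = u := by rw [centralizerIn_conj hy hu']; group
          intro v hv
          refine Subgroup.mem_normalizer_iff.2 fun y => ⟨h1 v (hVU hv) y, fun h => ?_⟩
          have := h1 _ (inv_mem (hVU hv)) _ h
          simpa [mul_assoc] using this
        have hlt : V < V ⊔ C := lt_of_le_of_ne le_sup_left fun e =>
          hxV (by rw [e]; exact le_sup_right (a := V) hx)
        obtain ⟨y, hy, hyV⟩ := SetLike.exists_of_lt (lt_normalizerIn hU
          (sup_le hVU inf_le_left) hlt)
        have hy' : y ∈ (↑(V ⊔ C) : Set Ω) := hy.1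
        rw [Subgroup.coe_mul_of_left_le_normalizer_right _ _ hle] at hy'
        obtain ⟨v, hv, a, ha, rfl⟩ := Set.mem_mul.1 hy'
        have haN : a ∈ normalizerIn (V ⊔ C) V := by
          have := mul_mem (inv_mem (le_normalizerIn (le_sup_left (b := C)) hv)) hy
          rwa [inv_mul_cancel_left] at this
        refine hyV (mul_mem hv ?_)
        have := finite_of_le (hY.1)
        refine mem_normalizerIn_of_conj (ha.1) fun z hz => ?_
        have hzV : z ∈ V := le_normalizerIn hY.1 hz
        have h1 : a * z * a⁻¹ * z⁻¹ ∈ V :=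
          mul_mem (normalizerIn_conj haN hzV) (inv_mem hzV)
        have h2 : a * z * a⁻¹ * z⁻¹ ∈ C := by
          rw [show a * z * a⁻¹ * z⁻¹ = a * (z * a⁻¹ * z⁻¹) by group]
          exact mul_mem ha ((Subgroup.mem_normalizer_iff.1 (hle hzV) a⁻¹).1 (inv_mem ha))
        have := mul_mem (hQY.le (hCV _ h2 h1)) hz
        rwa [inv_mul_cancel_right] at this
      obtain ⟨Y', g, hY', hg, hgY, hgN⟩ := exists_fullyNormalized_map hU hs hZU
      set D := normalizerIn U Z
      have hlt : V < normalizerIn U V := lt_normalizerIn hU le_rfl (lt_of_le_of_ne hVU hYU)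
      have hle : normalizerIn U V ≤ D := fun v hv => by
        have := finite_of_le hZU
        refine mem_normalizerIn_of_conj hv.1 fun z hz => ?_
        exact (IsMap.conj (F := E') hZU hv.1).forall_mem_sup le_sup_left le_sup_right
          (fun q hq => le_sup_left (b := w V) ((Subgroup.mem_normalizer_iff.1 (hQn hv.1) q).1 hq))
          (fun u hu => le_sup_right (a := Q) (normalizerIn_conj
            (hwN V hVT ⟨hUT hv.1, hv.2⟩) hu)) hz
      have hVD : Nat.card V < Nat.card D := by
        have : Finite (normalizerIn U V) := finite_of_le (S := U) inf_le_left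
        have : Finite D := finite_of_le (S := U) inf_le_left
        exact lt_of_lt_of_le (lt_of_le_of_ne (Subgroup.card_le_of_le hlt.le) fun e =>
          hlt.ne (Subgroup.eq_of_le_of_card_ge hlt.le e.ge)) (Subgroup.card_le_of_le hle)
      have hDY : Nat.card D ≤ Nat.card (normalizerIn U Y') := by
        have : Finite (normalizerIn U Y') := finite_of_le (S := U) inf_le_left
        rw [← hg.card_img le_rfl]
        exact Subgroup.card_le_of_le (hg.img_le le_rfl hgN)
      have hcardU : Nat.card (normalizerIn U Y') ≤ Nat.card U := Subgroup.card_le_of_le inf_le_left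
      have hgfix : Fix F X D g := ihd (Nat.card U - Nat.card V) (by omega) (Nat.card V) (by omega)
        D g hg hVD
      have hQY' : Q < Y' := by
        have hZD : Z ≤ D := le_normalizerIn hZU
        refine lt_of_le_of_ne (fun q hq => ?_) fun e => ?_
        · have hq' : q ∈ img g Q := by
            rw [show img g Q = Q from eq_of_le_of_card hQ.1 (hg.img_le (hQZ.le.trans hZD)
              (FusionChain.mapsTo_of_normal hQ hg (hQZ.le.trans hZD)))
              (hg.card_img (hQZ.le.trans hZD)).ge]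
            exact hq
          obtain ⟨z, hz, rfl⟩ := (hg.mem_img_iff (hQZ.le.trans hZD)).1 hq'
          exact hgY ▸ hg.mem_img (hQZ.le hz)
        · refine hQZ.ne (eq_of_le_of_card hZU hQZ.le ?_)
          rw [← hg.card_img hZD, hgY, ← e]
      intro M' f' hf'N hwM hfw
      obtain ⟨hM'V, hf'V, f'', hf'', he, hf''Y⟩ := (isMap_normalizer_iff hY.1 hN).1 hf'N
      refine fix_mono (fix_congr ?_ he) (le_refl M')
      refine fix_mono (P := M' ⊔ Y) ?_ le_sup_left
      have hMD : M' ⊔ Y ≤ V := sup_le hM'V (le_normalizerIn hY.1)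
      have hVD' : V ≤ D := (le_normalizerIn hVU).trans hle
      have hf''V : ∀ x ∈ M' ⊔ Y, f'' x ∈ V := fun x hx => hf''.forall_mem_sup le_sup_left le_sup_right
        (fun u hu => by rw [he u hu]; exact hf'V u hu)
        (fun u hu => le_normalizerIn hY.1 (hf''Y u hu)) hx
      obtain ⟨gi, hgi, hgil, hgir⟩ := ((hg.mono (hMD.trans hVD')).isIso).symm
      have hcomp : IsMap E' (img g (M' ⊔ Y)) (fun y => g (f'' (gi y))) :=
        (hgi.1.comp hf'' fun y hy => hgi.mem hy).comp hg fun y hy => hVD' (hf''V _ (hgi.mem hy))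
      have hZM : Z ≤ M' ⊔ Y := sup_le (hQY.le.trans le_sup_right) (hwM.trans le_sup_left)
      have hfZ : ∀ z ∈ Z, f'' z ∈ Z := fun z hz => hf''.forall_mem_sup
        (hQY.le.trans le_sup_right) (hwM.trans le_sup_left)
        (fun q hq => le_sup_left (b := w V)
          (FusionChain.mapsTo_of_normal hQ hf'' (hQY.le.trans le_sup_right) q hq))
        (fun u hu => le_sup_right (a := Q) (by rw [he u (hwM hu)]; exact hfw u hu)) hz
      have hY'M : Y' ≤ img g (M' ⊔ Y) := hgY ▸ hg.img_le (le_normalizerIn hZU)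
        fun z hz => hg.mem_img (hZM hz)
      have hY'f : ∀ y ∈ Y', g (f'' (gi y)) ∈ Y' := by
        intro y hy
        rw [← hgY] at hy ⊢
        obtain ⟨z, hz, rfl⟩ := (hg.mem_img_iff (le_normalizerIn hZU)).1 hy
        rw [hgil z (hZM hz)]
        exact hg.mem_img (hfZ z hz)
      have h1 : Fix F X (img g (M' ⊔ Y)) (fun y => g (f'' (gi y))) :=
        ihj (Nat.card U - Nat.card (normalizerIn U Y')) (by omega) Y' rfl hY' hQY' (by omega)
          _ _ hcomp hY'M (hg.img_le (hMD.trans hVD') fun x hx => hgN x (hVD' (hMD hx)))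
          (fun y hy => hgN _ (hVD' (hf''V _ (hgi.mem hy)))) hY'f
      have hgM : Fix F X (M' ⊔ Y) g := fix_mono hgfix (hMD.trans hVD')
      obtain ⟨gD, -, hgDl, -⟩ := (hg.isIso).symm
      have hgD : Fix F X (img g D) gD := fix_symm (fun x hx => hg.mem_img hx) hgDl
        (fun y hy => (hg.mem_img_iff le_rfl).1 hy) hgfix
      have h2 : Fix F X (M' ⊔ Y) (fun x => g (f'' (gi (g x)))) :=
        fix_comp (f := g) (f' := fun y => g (f'' (gi y))) (fun x hx => hg.mem_img hx) hgM h1
      refine fix_congr (fix_comp (f := fun x => g (f'' (gi (g x)))) (f' := gD) (P' := img g D)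
        (fun x hx => hg.mem_img (hVD' (hf''V _ (hgi.mem (hg.mem_img hx))))) h2 hgD) fun x hx => ?_
      show gD (g (f'' (gi (g x)))) = f'' x
      rw [hgil x hx, hgDl _ (hVD' (hf''V x hx))]
    refine FusionChain.alperin_induction hU hs (fun P f => t < Nat.card P → Fix F X P f) ?_ ?_ ?_ ?_
      hf ht
    · intro P f g _ h e ht
      exact fix_congr (h ht) e
    · intro P P' f hf' hle h ht
      have := finite_of_le hf'.le
      exact fix_mono (h (lt_of_lt_of_le ht (Subgroup.card_le_of_le hle))) hle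
    · intro P P' f g hf' hg hfP h h' ht
      have hP' : Nat.card P ≤ Nat.card P' := by
        have := finite_of_le hg.le
        rw [← hf'.card_img le_rfl]
        exact Subgroup.card_le_of_le (hf'.img_le le_rfl hfP)
      exact fix_comp hfP (h ht) (h' (lt_of_lt_of_le ht hP'))
    intro R hR hRc _ α hα big ht
    have hαm := (isIso_autFn hR.1 hα).1
    by_cases hQR : Q ≤ R
    · have hlt : Q < R := lt_of_le_of_ne hQR fun e => hc ?_
      swap
      · exact hRc.2 Q (by rw [e]; exact isConj_refl E' hR.1) |> fun h => by simpa [e] using h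
      have : Finite (normalizerIn U R) := finite_of_le (S := U) inf_le_left
      exact hkey _ R rfl hR hlt (lt_of_lt_of_le ht (Subgroup.card_le_of_le (le_normalizerIn hR.1)))
        R _ hαm le_rfl (le_normalizerIn hR.1) (fun x hx => le_normalizerIn hR.1 (autFn_mem α hx))
        fun x hx => autFn_mem α hx
    · obtain ⟨g, hg, hge, -⟩ := (FusionChain.isNormal_iff.1 hQ).2 R _ hαm
      have : Finite (R ⊔ Q : Subgroup Ω) := finite_of_le hg.le
      have hlt : Nat.card R < Nat.card (R ⊔ Q : Subgroup Ω) :=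
        lt_of_le_of_ne (Subgroup.card_le_of_le le_sup_left) fun e =>
          hQR ((le_sup_right : Q ≤ R ⊔ Q).trans (eq_of_le_of_card hg.le le_sup_left e.ge).ge)
      exact fix_congr (fix_mono (big _ g hg hlt (lt_trans ht hlt)) le_sup_left) hge
  intro P f hf
  have := finite_of_le hf.le
  exact hbig (Nat.card U) 0 (by omega) P f hf Nat.card_pos

end Cfsg.Agent.FusionFix
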