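import Cfsg.Agent.Lib.FusionFix.KernelTop

/-
Tame lifts on `M ≤ Q C_S(Q)` for an arbitrary centric `Q`.
Main results: `kernel`, `exists_tame`, `tame_unique`.
-/

set_option autoImplicit false

namespace Cfsg.Agent.FusionFix

open Cfsg Cfsg.FusionSystem Cfsg.Agent.Fusion Cfsg.Agent.FusionNormalCent

variable {Ω : Type*} [Group Ω] {S T : Subgroup Ω} {F : FusionSystem S} {E : FusionSystem T} {p : ℕ}

/-- Transport of a lift along an isomorphism. -/
theorem isLift_congr [Finite S] (hE : E.IsInvariantIn F) {Q M R M' : Subgroup Ω} {g : Ω → Ω}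
    (hg : IsIso F M M' g) (hQM : Q ≤ M) (hgQ : img g Q = R) {γ : MulAut M}
    (hγ : IsLift F E Q M γ) : IsLift F E R M' (MulAut.congr hg.equiv γ) := by
  have hTS : T ≤ S := hE.2.1.1
  have hQT : Q ≤ T := hγ.2.2.le
  have key : ∀ x ∈ M, autFn (MulAut.congr hg.equiv γ) (g x) = g (autFn γ x) := fun x hx => by
    rw [autFn_apply _ (hg.mem hx), autFn_apply γ hx]
    exact congr_apply_coe hg γ ⟨x, hx⟩
  refine ⟨congr_mem_autGroup hg hγ.1, fun y hy => ?_, ?_⟩
  · obtain ⟨x, hx, rfl⟩ := hg.exists_eq hy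
    rw [key x hx, ← hg.1.map_inv hx, ← hg.1.map_mul (inv_mem hx) (autFn_mem γ hx), ← hgQ]
    exact hg.1.mem_img (hγ.2.1 x hx)
  · obtain ⟨ψ, hψ, hψe⟩ := hγ.aut hTS hQM
    have hg0 : IsIso F Q R g := ⟨hg.1.mono hQM, hgQ⟩
    have h1 := FusionNormal.congr_mem_autGroup hE hg0 hQT hψ
    have hRT : R ≤ T := fun y hy => by
      obtain ⟨x, hx, rfl⟩ := hg0.exists_eq hy
      exact (stronglyClosed_iff.1 hE.2.1).2 Q g hg0.1 x hx (hQT hx)
    refine ((mem_autGroup_iff hRT).1 h1).congr fun y hy => ?_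
    obtain ⟨x, hx, rfl⟩ := hg0.exists_eq hy
    rw [key x (hQM hx), autFn_apply _ (hg0.mem hx), ← hψe ⟨x, hx⟩]
    exact congr_apply_coe hg0 ψ ⟨x, hx⟩

/-- The restriction of an automorphism that is trivial modulo `Q`. -/
theorem exists_restrict [Finite S] {Q M X : Subgroup Ω} {γ : MulAut X} (hQM : Q ≤ M) (hMX : M ≤ X)
    (hXS : X ≤ S) (hγ : IsLift F E Q X γ) :
    ∃ δ : MulAut M, IsLift F E Q M δ ∧ (∀ x ∈ M, autFn δ x = autFn γ x) ∧
      ∀ n : ℕ, γ ^ n = 1 → δ ^ n = 1 := by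
  have hm := ((mem_autGroup_iff hXS).1 hγ.1).mono hMX
  have hmem : ∀ x ∈ M, autFn γ x ∈ M := fun x hx =>
    mem_of_mod hQM (fun y hy => hγ.2.1 y (hMX hy)) hx
  obtain ⟨δ, hδ, hδe⟩ := exists_aut_of_isIso ⟨hm, eq_of_le_of_card (hMX.trans hXS)
    (hm.img_le le_rfl hmem) (hm.card_img le_rfl).ge⟩
  have he : ∀ x ∈ M, autFn δ x = autFn γ x := fun x hx => (autFn_apply δ hx).trans (hδe ⟨x, hx⟩)
  refine ⟨δ, ⟨hδ, fun x hx => by rw [he x hx]; exact hγ.2.1 x (hMX hx),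
    hγ.2.2.congr fun x hx => (he x (hQM hx)).symm⟩, he, fun n hn => ?_⟩
  refine MulEquiv.ext fun x => Subtype.ext ?_
  rw [← autFn_apply (δ ^ n) x.2, autFn_pow δ n x.2, iterate_congr hmem he n x x.2,
    ← autFn_pow γ n (hMX x.2), hn, autFn_apply _ (hMX x.2)]
  rfl

theorem coprime_of_pow_eq_one {M : Subgroup Ω} {δ : MulAut M} {n : ℕ} (hn : n.Coprime p)
    (h : δ ^ n = 1) : (orderOf δ).Coprime p :=
  Nat.Coprime.coprime_dvd_left (orderOf_dvd_of_pow_eq_one h) hn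

/-- A tame lift on a smaller subgroup is the restriction of one on `Q C_S(Q)`. -/
theorem tame_extend [Finite S] [Fact p.Prime] (hS : IsPGroup p S) (hF : F.IsSaturated p)
    (hE : E.IsNormalIn F p) {Q M : Subgroup Ω} (hQ : F.IsFullyNormalized Q) (hQc : E.IsCentric Q)
    (hQM : Q ≤ M) (hM : M ≤ Dom S Q) {γ : MulAut M} (hγ : Tame F E p Q M γ) :
    ∃ δ, Tame F E p Q (Dom S Q) δ ∧ ∀ x ∈ M, autFn δ x = autFn γ x := by
  have hTS : T ≤ S := hE.1.2.2.2.1.1
  have hTc := hE.1.2.2.2.1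
  have hQT := hQc.1
  have hQS := hQT.trans hTS
  have hXS := dom_le (S := S) hQS
  have hcT := hQc.2 Q (isConj_refl E hQT)
  rcases hγ.2 with hco | ⟨t, ht, hte⟩
  · obtain ⟨ψ, hψ, hψe⟩ := hγ.1.aut hTS hQM
    obtain ⟨f₁, L₁⟩ := exists_lift hS hF hE hQc hψ
    have hψγ : ∀ x ∈ Q, autFn ψ x = autFn γ x := fun x hx =>
      (autFn_apply ψ hx).trans (hψe ⟨x, hx⟩)
    have hper : Periodic (orderOf γ) Q (autFn ψ) := fun x hx => by
      rw [iterate_congr (fun y hy => hγ.1.mapsTo hQM hy) hψγ _ x hx, ← autFn_pow γ _ (hQM hx),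
        pow_orderOf_eq_one, autFn_apply _ (hQM hx)]
      rfl
    obtain ⟨f, L, hf⟩ := L₁.periodize hS hco hper
    obtain ⟨δ, hδ, hδe⟩ := exists_aut_of_isIso ⟨L.map, eq_of_le_of_card hXS
      (L.map.img_le le_rfl fun x hx => L.mem hx) (L.map.card_img le_rfl).ge⟩
    have he : ∀ x ∈ Dom S Q, autFn δ x = f x := fun x hx => (autFn_apply δ hx).trans (hδe ⟨x, hx⟩)
    have hn : δ ^ orderOf γ = 1 := by
      refine MulEquiv.ext fun x => Subtype.ext ?_
      rw [← autFn_apply (δ ^ orderOf γ) x.2, autFn_pow δ _ x.2,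
        iterate_congr (fun y hy => L.mem hy) he _ x x.2, hf x x.2]
      rfl
    refine ⟨δ, ⟨⟨hδ, fun x hx => by rw [he x hx]; exact L.modP x hx,
      ((mem_autGroup_iff hQT).1 hψ).congr fun x hx => ((he x (le_dom S Q hx)).trans (L.eq x hx)).symm⟩,
      Or.inl (coprime_of_pow_eq_one hco hn)⟩, fun x hx => ?_⟩
    obtain ⟨q, hq, c, hc, rfl⟩ := exists_mul_of_mem_dom hQS (hM hx)
    have hcM : c ∈ M := by
      have := mul_mem (inv_mem (hQM hq)) hx
      rwa [inv_mul_cancel_left] at this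
    have hγm := (mem_autGroup_iff (hM.trans hXS)).1 hγ.1.1
    have hqc : f c = autFn γ c := eq_of_lift hS hF hQ L hco hf hc
      (hγm.mono (sup_le hQM ((Subgroup.zpowers_le).2 hcM)))
      (fun y hy => ((L.eq y hy).trans (hψγ y hy)).symm) (hγ.1.2.1 c hcM)
      (by rw [← autFn_pow γ _ hcM, pow_orderOf_eq_one, autFn_apply _ hcM]; rfl)
    rw [he _ (hM hx), L.map.map_mul (le_dom S Q hq) (hM hcM), hγm.map_mul (hQM hq) hcM, hqc,
      L.eq q hq, hψγ q hq]
  · obtain ⟨δ, hδ, hδe⟩ := exists_conj_tame (p := p) (E := E) hTc hQT hcT (le_dom S Q) le_rfl ht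
    exact ⟨δ, hδ, fun x hx => (hδe x (hM hx)).trans (hte x hx).symm⟩

/-- A product of tame lifts fixing `Q` pointwise is trivial. -/
theorem kernel [Finite S] [Fact p.Prime] (hS : IsPGroup p S) (hF : F.IsSaturated p)
    (hE : E.IsNormalIn F p) {Q M : Subgroup Ω} (hQc : E.IsCentric Q) (hQM : Q ≤ M)
    (hM : M ≤ Dom S Q) {γ : MulAut M} (hγ : γ ∈ Gam F E p Q M)
    (hfix : ∀ x ∈ Q, autFn γ x = x) : γ = 1 := by
  have hEi := hE.1.2.2
  have hTS : T ≤ S := hEi.2.1.1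
  have hQT := hQc.1
  have hQS := hQT.trans hTS
  obtain ⟨R, g, hR, hXR, hg, hgQ⟩ := exists_std_map hS hF hQS
  have hDN : Dom S Q ≤ normalizerIn S Q := dom_le_normalizerIn hQS
  have hQN : Q ≤ normalizerIn S Q := le_normalizerIn hQS
  set M' := img g M with hM'
  have hiso : IsIso F M M' g := (hg.mono (hM.trans hDN)).isIso
  have hRM : R ≤ M' := fun y hy => by
    rw [← hgQ] at hy
    obtain ⟨x, hx, rfl⟩ := (hg.mem_img_iff hQN).1 hy
    exact hiso.mem (hQM hx)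
  have hM'X : M' ≤ Dom S R := hiso.1.img_le le_rfl fun x hx => hg.forall_mem_sup hQN
    ((centralizerIn_le_normalizerIn S Q))
    (fun q hq => le_dom S R (hgQ ▸ hg.mem_img hq))
    (fun c hc => cen_le_dom S R (map_centralizerIn hg hQN hgQ
      (centralizerIn_le_normalizerIn S Q hc) hc)) (hM hx)
  have hRc : E.IsCentric R := centric_of_conj hEi hQc (isConj_iff.2 ⟨g, hg.mono hQN, hgQ⟩)
  have hRS := hRc.1.trans hTS
  have hXS := dom_le (S := S) hRS
  have := finite_mulAut (S := S) (hM'X.trans hXS)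
  -- automorphisms of `M'` that come from the group on `Q C_S(Q)`
  let H : Subgroup (MulAut M') :=
    { carrier := {a | ∃ b ∈ Gam F E p R (Dom S R), ∀ x ∈ M', autFn b x = autFn a x}
      one_mem' := ⟨1, one_mem _, fun x hx => by
        rw [autFn_apply _ (hM'X hx), autFn_apply _ hx]; rfl⟩
      mul_mem' := by
        rintro a a' ⟨b, hb, he⟩ ⟨b', hb', he'⟩
        refine ⟨b * b', mul_mem hb hb', fun x hx => ?_⟩
        have h1 : ((b' ⟨x, hM'X hx⟩ : Dom S R) : Ω) = (a' ⟨x, hx⟩ : M') := by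
          rw [← autFn_apply b' (hM'X hx), he' x hx, autFn_apply a' hx]
        rw [autFn_apply (a * a') hx, MulAut.mul_apply, ← autFn_apply a (a' ⟨x, hx⟩).2,
          ← he _ (a' ⟨x, hx⟩).2, ← h1, autFn_apply (b * b') (hM'X hx), MulAut.mul_apply,
          autFn_apply b (b' ⟨x, hM'X hx⟩).2]
      inv_mem' := by
        rintro a ⟨b, hb, he⟩
        refine ⟨b⁻¹, inv_mem hb, fun x hx => ?_⟩
        set y := a⁻¹ ⟨x, hx⟩
        have h1 : (⟨x, hM'X hx⟩ : Dom S R) = b ⟨y, hM'X y.2⟩ := by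
          refine Subtype.ext ?_
          rw [← autFn_apply b (hM'X y.2), he y y.2, autFn_apply a y.2]
          exact (congrArg Subtype.val (MulAut.apply_inv_self _ a ⟨x, hx⟩)).symm
        rw [autFn_apply b⁻¹ (hM'X hx), autFn_apply a⁻¹ hx, h1, MulAut.inv_apply_self] }
  have hle : (Gam F E p Q M).map (MulAut.congr hiso.equiv).toMonoidHom ≤ H := by
    refine Subgroup.map_le_iff_le_comap.2 ((Subgroup.closure_le _).2 fun a ha => ?_)
    have hlift := isLift_congr hEi hiso hQM hgQ ha.1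
    have htame : Tame F E p R M' (MulAut.congr hiso.equiv a) := by
      refine ⟨hlift, ?_⟩
      rcases ha.2 with hco | ⟨t, ht, hte⟩
      · exact Or.inl (by rwa [MulEquiv.orderOf_eq])
      · have htN : t ∈ normalizerIn S Q := inf_le_inf_right _ hTS ht
        refine Or.inr ⟨g t, ⟨(stronglyClosed_iff.1 hEi.2.1).2 _ g hg t htN ht.1,
          (map_normalizerIn hg hQN hgQ htN htN).2⟩, fun y hy => ?_⟩
        obtain ⟨x, hx, rfl⟩ := hiso.exists_eq hy
        rw [autFn_apply _ hy, ← hg.map_conj htN (hDN (hM hx)), ← hte x hx, autFn_apply a hx]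
        exact congr_apply_coe hiso a ⟨x, hx⟩
    obtain ⟨b, hb, hbe⟩ := tame_extend hS hF hE hR hRc hRM hM'X htame
    exact ⟨b, Subgroup.subset_closure hb, hbe⟩
  obtain ⟨b, hb, hbe⟩ := hle ⟨γ, hγ, rfl⟩
  have hb1 : b = 1 := kernel_top hS hF hE hR hXR hRc hb fun y hy => by
    obtain ⟨x, hx, rfl⟩ := IsIso.exists_eq (f := g) (P := Q) (F := F) (Q := R) ⟨hg.mono hQN, hgQ⟩ hy
    rw [hbe _ (hRM hy), autFn_apply _ (hRM hy)]
    refine (congr_apply_coe hiso γ ⟨x, hQM hx⟩).trans ?_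
    rw [← autFn_apply γ (hQM hx), hfix x hx]
  refine (MulAut.congr hiso.equiv).injective ?_
  rw [map_one]
  refine MulEquiv.ext fun y => Subtype.ext ?_
  rw [← autFn_apply _ y.2]
  refine (hbe y y.2).symm.trans ?_
  rw [hb1, autFn_apply _ (hM'X y.2)]
  rfl

/-- Automorphisms of order prime to `p` have tame lifts. -/
theorem exists_tame [Finite S] [Fact p.Prime] (hS : IsPGroup p S) (hF : F.IsSaturated p)
    (hE : E.IsNormalIn F p) {Q M : Subgroup Ω} (hQc : E.IsCentric Q) (hQM : Q ≤ M)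
    (hM : M ≤ Dom S Q) {ψ : MulAut Q} (hψ : ψ ∈ E.autGroup Q) (hn : (orderOf ψ).Coprime p) :
    ∃ γ, Tame F E p Q M γ ∧ (orderOf γ).Coprime p ∧ ∀ x ∈ Q, autFn γ x = autFn ψ x := by
  have hEi := hE.1.2.2
  have hTS : T ≤ S := hEi.2.1.1
  have hQT := hQc.1
  have hQS := hQT.trans hTS
  obtain ⟨R, g, hR, hXR, hg, hgQ⟩ := exists_std_map hS hF hQS
  have hDN : Dom S Q ≤ normalizerIn S Q := dom_le_normalizerIn hQS
  have hQN : Q ≤ normalizerIn S Q := le_normalizerIn hQS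
  have hg0 : IsIso F Q R g := ⟨hg.mono hQN, hgQ⟩
  set M' := img g M with hM'
  have hiso : IsIso F M M' g := (hg.mono (hM.trans hDN)).isIso
  have hRM : R ≤ M' := fun y hy => by
    obtain ⟨x, hx, rfl⟩ := hg0.exists_eq hy
    exact hiso.mem (hQM hx)
  have hM'X : M' ≤ Dom S R := hiso.1.img_le le_rfl fun x hx => hg.forall_mem_sup hQN
    ((centralizerIn_le_normalizerIn S Q))
    (fun q hq => le_dom S R (hgQ ▸ hg.mem_img hq))
    (fun c hc => cen_le_dom S R (map_centralizerIn hg hQN hgQ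
      (centralizerIn_le_normalizerIn S Q hc) hc)) (hM hx)
  have hRc : E.IsCentric R := centric_of_conj hEi hQc (isConj_iff.2 ⟨g, hg0⟩)
  have hRS := hRc.1.trans hTS
  have hXS := dom_le (S := S) hRS
  set ψ' := MulAut.congr hg0.equiv ψ with hψ'def
  have hψ' : ψ' ∈ E.autGroup R := FusionNormal.congr_mem_autGroup hEi hg0 hQT hψ
  have hn' : (orderOf ψ').Coprime p := by rwa [hψ'def, MulEquiv.orderOf_eq]
  obtain ⟨f, L, hf⟩ := exists_periodic_lift hS hF hE hRc hψ' hn'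
  obtain ⟨δ, hδ, hδe⟩ := exists_aut_of_isIso ⟨L.map, eq_of_le_of_card hXS
    (L.map.img_le le_rfl fun x hx => L.mem hx) (L.map.card_img le_rfl).ge⟩
  have he : ∀ x ∈ Dom S R, autFn δ x = f x := fun x hx => (autFn_apply δ hx).trans (hδe ⟨x, hx⟩)
  have hδn : δ ^ orderOf ψ' = 1 := by
    refine MulEquiv.ext fun x => Subtype.ext ?_
    rw [← autFn_apply (δ ^ orderOf ψ') x.2, autFn_pow δ _ x.2,
      iterate_congr (fun y hy => L.mem hy) he _ x x.2, hf x x.2]
    rfl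
  obtain ⟨δ', hδ', hδ'e, hδ'n⟩ := exists_restrict hRM hM'X hXS
    (show IsLift F E R (Dom S R) δ from ⟨hδ, fun x hx => by rw [he x hx]; exact L.modP x hx,
      ((mem_autGroup_iff hRc.1).1 hψ').congr fun x hx =>
        ((he x (le_dom S R hx)).trans (L.eq x hx)).symm⟩)
  obtain ⟨gi, hgi, hgil, hgir⟩ := hiso.symm
  have hgiR : img gi R = Q := IsIso.img_eq_of hgi.1 hRM
    (fun y hy => by obtain ⟨x, hx, rfl⟩ := hg0.exists_eq hy; rwa [hgil x (hQM hx)])
    fun x hx => ⟨g x, hg0.mem hx, hgil x (hQM hx)⟩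
  have hco : (orderOf (MulAut.congr hgi.equiv δ')).Coprime p := by
    rw [MulEquiv.orderOf_eq]
    exact coprime_of_pow_eq_one hn' (hδ'n _ hδn)
  refine ⟨_, ⟨isLift_congr hEi hgi hRM hgiR hδ', Or.inl hco⟩, hco, fun x hx => ?_⟩
  have hgx := hg0.mem hx
  rw [autFn_apply _ (hQM hx)]
  have h1 : (⟨x, hQM hx⟩ : M) = hgi.equiv ⟨g x, hRM hgx⟩ :=
    Subtype.ext (hgil x (hQM hx)).symm
  rw [h1, congr_apply_coe, ← autFn_apply δ' (hRM hgx), hδ'e _ (hRM hgx), he _ (le_dom S R hgx),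
    L.eq _ hgx, autFn_apply ψ' hgx, autFn_apply ψ hx]
  refine (congrArg gi (congr_apply_coe hg0 ψ ⟨x, hx⟩)).trans ?_
  exact hgil _ (hQM (ψ ⟨x, hx⟩).2)

end Cfsg.Agent.FusionFix
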