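import Cfsg.Agent.Lib.FusionFix.Basic
import Cfsg.Agent.Lib.FusionCrit.Extend
import Cfsg.Agent.Lib.TwoFusion.Transfer
import Cfsg.Agent.Lib.FusionNormalCent.Centralizer

/-
The kernel theorem for a fully normalized `Q`: a product of tame lifts that fixes `Q` pointwise fixes
`Q C_S(Q)` pointwise.
Main results: `kernel_top`.
-/

set_option autoImplicit false

namespace Cfsg.Agent.FusionFix

open Cfsg Cfsg.FusionSystem Cfsg.Agent.Fusion Cfsg.Agent.FusionNormalCent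

variable {Ω : Type*} [Group Ω] {S T : Subgroup Ω} {F : FusionSystem S} {E : FusionSystem T} {p : ℕ}

/-- The `p`-elements of the lifts induced by `N_T(Q) C_S(Q)`. -/
def innerPart (S T Q X : Subgroup Ω) : Subgroup (MulAut X) :=
  autInducedBy (normalizerIn T Q ⊔ centralizerIn S Q) X

theorem exists_mul_of_mem_sup {Q : Subgroup Ω} (hTS : T ≤ S) {s : Ω}
    (hs : s ∈ normalizerIn T Q ⊔ centralizerIn S Q) :
    ∃ t ∈ normalizerIn T Q, ∃ w ∈ centralizerIn S Q, s = t * w := by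
  have hle : normalizerIn T Q ≤ Subgroup.normalizer (centralizerIn S Q : Set Ω) := by
    intro t ht
    have hone : ∀ u ∈ normalizerIn T Q, ∀ c ∈ centralizerIn S Q, u * c * u⁻¹ ∈ centralizerIn S Q := by
      intro u hu c hc
      refine mem_centralizerIn_of_conj
        (mul_mem (mul_mem (hTS hu.1) hc.1) (inv_mem (hTS hu.1))) fun z hz => ?_
      calc u * c * u⁻¹ * z * (u * c * u⁻¹)⁻¹ = u * (c * (u⁻¹ * z * u) * c⁻¹) * u⁻¹ := by group
        _ = z := by rw [centralizerIn_conj hc (normalizerIn_conj_inv hu hz)]; group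
    refine Subgroup.mem_normalizer_iff.2 fun c => ⟨hone t ht c, fun h => ?_⟩
    have := hone _ (inv_mem ht) _ h
    simpa [mul_assoc] using this
  have h : s ∈ (↑(normalizerIn T Q ⊔ centralizerIn S Q) : Set Ω) := hs
  rw [Subgroup.coe_mul_of_left_le_normalizer_right _ _ hle] at h
  obtain ⟨t, ht, w, hw, rfl⟩ := Set.mem_mul.1 h
  exact ⟨t, ht, w, hw, rfl⟩

/-- A lift of a fully normalized `Q` fixing `Q` is induced by `C_S(Q)`. -/
theorem fix_le_innerPart [Finite S] [Fact p.Prime] (hS : IsPGroup p S) (hF : F.IsSaturated p)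
    {Q : Subgroup Ω} (hQ : F.IsFullyNormalized Q) (hX : F.IsFullyNormalized (Dom S Q))
    {κ : MulAut (Dom S Q)} (hκ : κ ∈ F.autGroup (Dom S Q))
    (hmod : ∀ x ∈ Dom S Q, x⁻¹ * autFn κ x ∈ Q) (hfix : ∀ x ∈ Q, autFn κ x = x) :
    κ ∈ autInducedBy (centralizerIn S Q) (Dom S Q) := by
  have hXS : Dom S Q ≤ S := hX.1
  have := finite_mulAut (S := S) hXS
  have hKp : IsPGroup p (Subgroup.zpowers κ) := by
    refine isPGroup_fixing (F := F) hS (le_dom S Q) hXS ((Subgroup.zpowers_le).2 hκ) ?_ ?_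
    · intro γ hγ x hx
      obtain ⟨k, rfl⟩ := (mem_powers_iff_mem_zpowers.2 hγ)
      rw [autFn_pow κ k (le_dom S Q hx)]
      exact Function.iterate_fixed (hfix x hx) k
    · intro γ hγ x hx
      obtain ⟨k, rfl⟩ := (mem_powers_iff_mem_zpowers.2 hγ)
      rw [autFn_pow κ k hx]
      exact iterate_mod (le_dom S Q) hmod k x hx
  obtain ⟨b, hb, hbc⟩ :=
    (isFullyAutomized_iff.1 (fullyAutomized_of_fullyNormalized hS hF hX)).2.exists_conj_le hKp
      ((Subgroup.zpowers_le).2 hκ)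
  obtain ⟨s, hs, hse⟩ := mem_autInducedBy_iff.1 (hbc κ (Subgroup.mem_zpowers κ))
  have hbm := (isIso_autFn hXS hb).1
  set R := img (autFn b) Q
  have hcs : s ∈ centralizerIn S R := by
    refine mem_centralizerIn_of_conj hs fun z hz => ?_
    obtain ⟨x, hx, rfl⟩ := (hbm.mem_img_iff (le_dom S Q)).1 hz
    have hxX := le_dom S Q hx
    have h1 := hse (b ⟨x, hxX⟩)
    rw [MulAut.mul_apply, MulAut.mul_apply, MulAut.inv_apply_self] at h1
    have h2 : κ ⟨x, hxX⟩ = ⟨x, hxX⟩ := Subtype.ext ((autFn_apply κ hxX).symm.trans (hfix x hx))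
    rw [h2] at h1
    rw [autFn_apply b hxX]
    exact h1.symm
  have hcle : img (autFn b) (centralizerIn S Q) = centralizerIn S R := by
    refine eq_of_le_of_card inf_le_left (hbm.img_le (cen_le_dom S Q) fun c hc =>
      map_centralizerIn hbm (le_dom S Q) rfl (cen_le_dom S Q hc) hc) ?_
    rw [hbm.card_img (cen_le_dom S Q)]
    exact (fullyCentralized_of_fullyNormalized hS hF hQ).2 R
      (isConj_iff.2 ⟨_, hbm.mono (le_dom S Q), rfl⟩)
  rw [← hcle] at hcs
  obtain ⟨w, hw, hwe⟩ := (hbm.mem_img_iff (cen_le_dom S Q)).1 hcs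
  refine mem_autInducedBy_iff.2 ⟨w, hw, fun x => ?_⟩
  have h1 := hse (b x)
  rw [MulAut.mul_apply, MulAut.mul_apply, MulAut.inv_apply_self] at h1
  have hwX := cen_le_dom S Q hw
  have hconj : w * (x : Ω) * w⁻¹ ∈ Dom S Q := mul_mem (mul_mem hwX x.2) (inv_mem hwX)
  have h2 : b (κ x) = b ⟨w * x * w⁻¹, hconj⟩ := by
    refine Subtype.ext ?_
    rw [h1, ← hwe, ← autFn_apply b x.2, ← autFn_apply b hconj, hbm.map_conj hwX x.2]
  exact congrArg Subtype.val (b.injective h2)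

/-- The kernel theorem for a fully normalized subgroup. -/
theorem kernel_top [Finite S] [Fact p.Prime] (hS : IsPGroup p S) (hF : F.IsSaturated p)
    (hE : E.IsNormalIn F p) {Q : Subgroup Ω} (hQ : F.IsFullyNormalized Q)
    (hX : F.IsFullyNormalized (Dom S Q)) (hQc : E.IsCentric Q) {γ : MulAut (Dom S Q)}
    (hγ : γ ∈ Gam F E p Q (Dom S Q)) (hfix : ∀ x ∈ Q, autFn γ x = x) : γ = 1 := by
  classical
  obtain ⟨⟨hEs, -, hEi⟩, -⟩ := hE
  have hTS : T ≤ S := hEi.2.1.1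
  have hTc := hEi.2.1
  have hQT := hQc.1
  have hQS := hQT.trans hTS
  have hcT := hQc.2 Q (isConj_refl E hQT)
  have hXS : Dom S Q ≤ S := hX.1
  have := finite_of_le hTS
  have hT : IsPGroup p T := hS.to_le hTS
  have := finite_mulAut (S := S) hXS
  have hQX : Q ≤ (Dom S Q) := le_dom S Q
  set G := Lifts F E hTS Q (Dom S Q) hQT hQX
  set P : Subgroup G := (innerPart S T Q (Dom S Q)).subgroupOf G
  set PT : Subgroup P := ((autInducedBy (normalizerIn T Q) (Dom S Q)).subgroupOf G).subgroupOf P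
  have hXN : (Dom S Q) ≤ normalizerIn S Q := dom_le_normalizerIn hQS
  -- elements of `P`
  have hmemP : ∀ g : P, ∃ t ∈ normalizerIn T Q, ∃ w ∈ centralizerIn S Q,
      (∀ x ∈ (Dom S Q), autFn ((g : G) : MulAut (Dom S Q)) x = t * w * x * (t * w)⁻¹) ∧
      ∀ x ∈ (Dom S Q), x⁻¹ * (w * x * w⁻¹) ∈ Q := by
    intro g
    obtain ⟨s, hs, hse⟩ := mem_autInducedBy_iff.1 (g.2 : ((g : G) : MulAut (Dom S Q)) ∈ innerPart S T Q (Dom S Q))
    obtain ⟨t, ht, w, hw, rfl⟩ := exists_mul_of_mem_sup hTS hs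
    have he : ∀ x ∈ (Dom S Q), autFn ((g : G) : MulAut (Dom S Q)) x = t * w * x * (t * w)⁻¹ := fun x hx => by
      rw [autFn_apply _ hx]
      exact hse ⟨x, hx⟩
    refine ⟨t, ht, w, hw, he, fun x hx => ?_⟩
    have hwX := cen_le_dom S Q hw
    have hy : w * x * w⁻¹ ∈ (Dom S Q) := mul_mem (mul_mem hwX hx) (inv_mem hwX)
    have h1 : x⁻¹ * (t * w * x * (t * w)⁻¹) ∈ Q := he x hx ▸ (g : G).2.2.1 x hx
    obtain ⟨γt, hγt, hγte⟩ := exists_conj_tame (p := p) (E := E) hTc hQT hcT hQX le_rfl ht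
    have h2 : (w * x * w⁻¹)⁻¹ * (t * (w * x * w⁻¹) * t⁻¹) ∈ Q := hγte _ hy ▸ hγt.1.2.1 _ hy
    rw [show x⁻¹ * (w * x * w⁻¹) = (x⁻¹ * (t * w * x * (t * w)⁻¹)) *
      ((w * x * w⁻¹)⁻¹ * (t * (w * x * w⁻¹) * t⁻¹))⁻¹ by group]
    exact mul_mem h1 (inv_mem h2)
  have hmemPT : ∀ (g : P) (n : Ω), n ∈ normalizerIn T Q →
      (∀ x ∈ (Dom S Q), autFn ((g : G) : MulAut (Dom S Q)) x = n * x * n⁻¹) → g ∈ PT := fun g n hn h =>
    mem_autInducedBy_iff.2 ⟨n, hn, fun x => (autFn_apply _ x.2).symm.trans (h x x.2)⟩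
  have hcomp : ∀ (a b : MulAut (Dom S Q)), ∀ x ∈ (Dom S Q), autFn (a * b) x = autFn a (autFn b x) := fun a b x hx => by
    rw [autFn_apply (a * b) hx, autFn_apply a (autFn_mem b hx), MulAut.mul_apply]
    exact congrArg (fun z : (Dom S Q) => ((a z : (Dom S Q)) : Ω)) (Subtype.ext (autFn_apply b hx).symm)
  let Is : MulAut (Dom S Q) → Ω → Prop := fun a s => ∀ x ∈ (Dom S Q), autFn a x = s * x * s⁻¹
  have hIs : ∀ a b s r, Is a s → Is b r → Is (a * b) (s * r) := fun a b s r ha hb x hx => by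
    have h1 := autFn_mem b hx
    rw [hb x hx] at h1
    rw [hcomp a b x hx, hb x hx, ha _ h1]
    group
  have hIsi : ∀ a s, Is a s → Is a⁻¹ s⁻¹ := fun a s ha x hx => by
    have h1 := ha _ (autFn_mem a⁻¹ hx)
    rw [← hcomp a a⁻¹ x hx, mul_inv_cancel, autFn_apply _ hx] at h1
    simp only [MulAut.one_apply] at h1
    calc autFn a⁻¹ x = s⁻¹ * (s * autFn a⁻¹ x * s⁻¹) * s := by group
      _ = s⁻¹ * x * s⁻¹⁻¹ := by rw [← h1, inv_inv]
  have hNn : ∀ s ∈ normalizerIn S Q, ∀ u ∈ normalizerIn T Q, s * u * s⁻¹ ∈ normalizerIn T Q := by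
    intro s hs u hu
    have h1 : s * u * s⁻¹ ∈ normalizerIn S Q :=
      mul_mem (mul_mem hs (inf_le_inf_right _ hTS hu)) (inv_mem hs)
    exact ⟨conj_mem_of_stronglyClosed hTc hs.1 hu.1, h1.2⟩
  have hQN : Q ≤ normalizerIn T Q := le_normalizerIn hQT
  have hNS : normalizerIn T Q ≤ normalizerIn S Q := inf_le_inf_right _ hTS
  have hPT : PT.Normal := by
    refine ⟨fun g hg h => ?_⟩
    obtain ⟨n, hn, hne⟩ := mem_autInducedBy_iff.1 (hg : (((g : G) : MulAut (Dom S Q))) ∈ _)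
    have hg' : Is ((g : G) : MulAut (Dom S Q)) n := fun x hx => (autFn_apply _ hx).trans (hne ⟨x, hx⟩)
    obtain ⟨t, ht, w, hw, he, -⟩ := hmemP h
    exact hmemPT _ (t * w * n * (t * w)⁻¹)
      (hNn _ (mul_mem (hNS ht) (centralizerIn_le_normalizerIn S Q hw)) _ hn)
      (hIs _ _ _ _ (hIs _ _ _ _ he hg') (hIsi _ _ he))
  have hrep : ∀ g : P, ∃ W : P, ∃ w ∈ centralizerIn S Q, QuotientGroup.mk' PT g =
      QuotientGroup.mk' PT W ∧ Is ((W : G) : MulAut (Dom S Q)) w ∧ ∀ x ∈ (Dom S Q), x⁻¹ * (w * x * w⁻¹) ∈ Q := by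
    intro g
    obtain ⟨t, ht, w, hw, he, hwX⟩ := hmemP g
    obtain ⟨γt, hγt, hγte⟩ := exists_conj_tame (p := p) (E := E) hTc hQT hcT hQX le_rfl ht
    have hW : Is (γt⁻¹ * ((g : G) : MulAut (Dom S Q))) w := by
      have := hIs _ _ _ _ (hIsi _ _ hγte) he
      rwa [inv_mul_cancel_left] at this
    let Wt : P := ⟨⟨γt, hγt.1⟩, mem_autInducedBy_iff.2 ⟨t, Subgroup.mem_sup_left ht,
      fun x => ((autFn_apply γt x.2).symm.trans (hγte x x.2))⟩⟩
    refine ⟨Wt⁻¹ * g, w, hw, ?_, hW, hwX⟩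
    have : QuotientGroup.mk' PT Wt = 1 := (QuotientGroup.eq_one_iff _).2 (hmemPT _ t ht hγte)
    rw [map_mul, map_inv, this, inv_one, one_mul]
  have hcomm : ∀ a b : P ⧸ PT, a * b = b * a := by
    intro a b
    obtain ⟨a, rfl⟩ := QuotientGroup.mk'_surjective PT a
    obtain ⟨b, rfl⟩ := QuotientGroup.mk'_surjective PT b
    obtain ⟨W, w, hw, ea, hW, hwX⟩ := hrep a
    obtain ⟨V, v, hv, eb, hV, -⟩ := hrep b
    rw [ea, eb, ← map_mul, ← map_mul]
    refine QuotientGroup.eq.2 (hmemPT _ ((w * v)⁻¹ * (v * w)) (hQN ?_)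
      (hIs _ _ _ _ (hIsi _ _ (hIs _ _ _ _ hW hV)) (hIs _ _ _ _ hV hW)))
    have h2 := normalizerIn_conj_inv (centralizerIn_le_normalizerIn S Q hw)
      (inv_mem (hwX v (cen_le_dom S Q hv)))
    rw [show (w * v)⁻¹ * (v * w) = w⁻¹ * (v⁻¹ * (w * v * w⁻¹))⁻¹ * w by group]
    exact h2
  letI : CommGroup (P ⧸ PT) := { (inferInstance : Group (P ⧸ PT)) with mul_comm := hcomm }
  set φ : P →* P ⧸ PT := QuotientGroup.mk' PT
  haveI : PT.Normal := hPT
  -- controlled fusion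
  have key : ∀ (g : P) (k : ℕ) (a : G) (hm : a * (g : G) ^ k * a⁻¹ ∈ P),
      φ ⟨a * (g : G) ^ k * a⁻¹, hm⟩ = φ g ^ k := by
    intro g k a hm
    rw [← _root_.map_pow]
    set v : P := g ^ k with hv
    have hgv : (g : G) ^ k = (v : G) := rfl
    set v' : P := ⟨a * (g : G) ^ k * a⁻¹, hm⟩ with hv'
    have hv'e : ((v' : G) : MulAut (Dom S Q)) =
        (a : MulAut (Dom S Q)) * ((v : G) : MulAut (Dom S Q)) * (a : MulAut (Dom S Q))⁻¹ := rfl
    obtain ⟨t, ht, w, hw, he, -⟩ := hmemP v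
    have hs : t * w ∈ normalizerIn S (Dom S Q) :=
      mem_normalizerIn_of_aut (mul_mem (hTS ht.1) hw.1)
        (α := ((v : G) : MulAut (Dom S Q))) fun x => by rw [← autFn_apply _ x.2]; exact he x x.2
    have hnc : normConj S (Dom S Q) ⟨t * w, hs⟩ = ((v : G) : MulAut (Dom S Q)) :=
      MulEquiv.ext fun x => Subtype.ext
        (((he x x.2).symm.trans (autFn_apply _ x.2)))
    have hsN : t * w ∈ Nx S (Dom S Q) (autFn (a : MulAut (Dom S Q))) := by
      refine FusionCrit.mem_Nx_of_aut hs ?_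
      rw [hnc, ← hv'e]
      exact autInducedBy_le_of_le (sup_le (inf_le_left.trans hTS) inf_le_left) v'.2
    obtain ⟨â, hâ, hâe⟩ := (isReceptive_iff.1 (receptive_of_fullyNormalized hS hF hX)).2 (Dom S Q) _
      (isIso_autFn hXS a.2.1)
    have hXa : Dom S Q ≤ Nx S (Dom S Q) (autFn (a : MulAut (Dom S Q))) :=
      le_Nx (isIso_autFn hXS a.2.1).1
    have hwX := cen_le_dom S Q hw
    have htN : t ∈ Nx S (Dom S Q) (autFn (a : MulAut (Dom S Q))) := by
      have := mul_mem hsN (inv_mem (hXa hwX))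
      rwa [mul_inv_cancel_right] at this
    have hâQ : img â Q = Q := eq_of_le_of_card hQS
      (hâ.img_le (hQX.trans hXa) fun x hx => by
        rw [hâe x (hQX hx)]; exact a.2.mapsTo hQX hx) (hâ.card_img (hQX.trans hXa)).ge
    have htT : â t ∈ normalizerIn T Q :=
      ⟨(stronglyClosed_iff.1 hTc).2 _ â hâ t htN ht.1,
        (map_normalizerIn hâ (hQX.trans hXa) hâQ htN (hNS ht)).2⟩
    have hv'Is : Is ((v' : G) : MulAut (Dom S Q)) (â t * â w) := by
      intro x hx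
      obtain ⟨y, hy, rfl⟩ := (isIso_autFn hXS a.2.1).exists_eq hx
      have hy' : (t * w) * y * (t * w)⁻¹ ∈ Dom S Q := he y hy ▸ autFn_mem _ hy
      rw [hv'e, hcomp _ _ _ (autFn_mem _ hy), hcomp _ _ _ (autFn_mem _ (autFn_mem _ hy)),
        ← hcomp ((a : MulAut (Dom S Q))⁻¹) _ y hy, inv_mul_cancel, autFn_apply _ hy,
        MulAut.one_apply, he y hy, ← hâe _ hy', hâ.map_conj hsN (hXa hy), hâe y hy,
        hâ.map_mul htN (hXa hwX)]
    have hq : w⁻¹ * â w ∈ Q := by rw [hâe w hwX]; exact a.2.2.1 w hwX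
    refine QuotientGroup.eq.2 (hmemPT _ ((â t * â w)⁻¹ * (t * w)) ?_
      (hIs _ _ _ _ (hIsi _ _ hv'Is) he))
    rw [show (â t * â w)⁻¹ * (t * w) =
      w⁻¹ * ((w * (w⁻¹ * â w) * w⁻¹)⁻¹ * ((â t)⁻¹ * t)) * w⁻¹⁻¹ by group]
    exact hNn _ (centralizerIn_le_normalizerIn S Q (inv_mem hw)) _ (mul_mem
      (inv_mem (hQN (normalizerIn_conj (centralizerIn_le_normalizerIn S Q hw) hq)))
      (mul_mem (inv_mem htT) ht))
  -- the index is prime to `p`
  let r : G →* MulAut Q :=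
    { toFun := fun a => Classical.choose (a.2.aut hTS hQX)
      map_one' := by
        refine MulEquiv.ext fun x => Subtype.ext ?_
        rw [(Classical.choose_spec ((1 : G).2.aut hTS hQX)).2 x, autFn_apply _ (hQX x.2)]
        rfl
      map_mul' := fun a b => by
        refine MulEquiv.ext fun x => Subtype.ext ?_
        rw [(Classical.choose_spec ((a * b).2.aut hTS hQX)).2 x, MulAut.mul_apply,
          (Classical.choose_spec (a.2.aut hTS hQX)).2, (Classical.choose_spec (b.2.aut hTS hQX)).2]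
        exact hcomp _ _ _ (hQX x.2) }
  have hr : ∀ (a : G) (x : Q), ((r a x : Q) : Ω) = autFn (a : MulAut (Dom S Q)) x :=
    fun a x => (Classical.choose_spec (a.2.aut hTS hQX)).2 x
  have hrE : r.range ≤ E.autGroup Q := by
    rintro _ ⟨a, rfl⟩
    exact (Classical.choose_spec (a.2.aut hTS hQX)).1
  have hker : r.ker ≤ P := fun a ha => autInducedBy_le_of_le le_sup_right
    (fix_le_innerPart hS hF hQ hX a.2.1 a.2.2.1 fun x hx => by
      show autFn (a : MulAut (Dom S Q)) x = x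
      rw [← hr a ⟨x, hx⟩, MonoidHom.mem_ker.1 ha]; rfl)
  have hidx : ¬ p ∣ P.index := by
    have hsy := (isFullyAutomized_iff.1 (fullyAutomized_of_fullyNormalized hT hEs
      (fullyNormalized_sub hS hF hEi hQT hQ))).2
    have := finite_mulAut (S := S) hQS
    have hle : autInducedBy T Q ≤ P.map r := by
      intro α hα
      obtain ⟨t, ht, hte⟩ := mem_autInducedBy_iff.1 hα
      have htN : t ∈ normalizerIn T Q := mem_normalizerIn_of_aut ht hte
      obtain ⟨γt, hγt, hγte⟩ := exists_conj_tame (p := p) (E := E) hTc hQT hcT hQX le_rfl htN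
      refine ⟨⟨γt, hγt.1⟩, mem_autInducedBy_iff.2 ⟨t, Subgroup.mem_sup_left htN,
        fun x => (autFn_apply γt x.2).symm.trans (hγte x x.2)⟩, MulEquiv.ext fun x => Subtype.ext ?_⟩
      rw [hr, hte x]
      exact hγte x (hQX x.2)
    have hrange : autInducedBy T Q ≤ r.range := hle.trans (Subgroup.map_le_range r P)
    obtain ⟨R, hR⟩ := (isSylowIn_iff_exists hrange).1 (hsy.mono hrange hrE)
    rw [← Subgroup.index_map_eq P r.rangeRestrict_surjective (by rwa [r.ker_rangeRestrict])]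
    intro hdvd
    refine R.not_dvd_index (hdvd.trans (Subgroup.index_dvd_of_le ?_))
    rw [hR]
    intro α hα
    obtain ⟨a, ha, e⟩ := hle hα
    exact ⟨a, ha, Subtype.ext e⟩
  -- the transfer
  set τ := MonoidHom.transfer φ
  have hτ : ∀ g : P, τ (g : G) = φ g ^ P.index := fun g =>
    TwoFusion.transfer_eq_pow_of_controlled φ g (key g)
  have hA : IsPGroup p (P ⧸ PT) := by
    refine IsPGroup.to_quotient ?_ PT
    intro g
    obtain ⟨k, hk⟩ := (isPGroup_autInducedBy hS : IsPGroup p (autInducedBy S (Dom S Q)))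
      ⟨((g : G) : MulAut (Dom S Q)), autInducedBy_le_of_le (sup_le (inf_le_left.trans hTS) inf_le_left) g.2⟩
    exact ⟨k, Subtype.ext (Subtype.ext (by simpa using congrArg Subtype.val hk))⟩
  have hle : Gam F E p Q (Dom S Q) ≤ τ.ker.map G.subtype := by
    refine (Subgroup.closure_le _).2 fun a ha => ⟨⟨a, ha.1⟩, MonoidHom.mem_ker.2 ?_, rfl⟩
    rcases ha.2 with hco | ⟨t, ht, hte⟩
    · have h1 : (orderOf (τ ⟨a, ha.1⟩)).Coprime p := by
        refine Nat.Coprime.coprime_dvd_left (orderOf_map_dvd τ _) ?_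
        rwa [← orderOf_injective G.subtype G.subtype_injective]
      obtain ⟨j, hj⟩ := IsPGroup.iff_orderOf.1 hA (τ ⟨a, ha.1⟩)
      rw [hj] at h1
      refine orderOf_eq_one_iff.1 (hj.trans ?_)
      rcases Nat.eq_zero_or_pos j with rfl | hj0
      · exact pow_zero p
      · exact absurd ((Nat.coprime_pow_left_iff hj0 p p).1 h1)
          (by rw [Nat.coprime_self]; exact (Fact.out : p.Prime).ne_one)
    · let g : P := ⟨⟨a, ha.1⟩, mem_autInducedBy_iff.2 ⟨t, Subgroup.mem_sup_left ht,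
        fun x => (autFn_apply a x.2).symm.trans (hte x x.2)⟩⟩
      show τ (g : G) = 1
      rw [hτ g, show φ g = 1 from (QuotientGroup.eq_one_iff _).2 (hmemPT g t ht hte), one_pow]
  obtain ⟨a, ha, rfl⟩ := hle hγ
  have haP : a ∈ P := hker (MonoidHom.mem_ker.2 (MulEquiv.ext fun x => Subtype.ext
    ((hr a x).trans (hfix x x.2))))
  have h2 : φ ⟨a, haP⟩ = 1 := by
    have h1 : φ ⟨a, haP⟩ ^ P.index = 1 := (hτ ⟨a, haP⟩).symm.trans (MonoidHom.mem_ker.1 ha)
    obtain ⟨j, hj⟩ := IsPGroup.iff_orderOf.1 hA (φ ⟨a, haP⟩)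
    refine orderOf_eq_one_iff.1 (Nat.eq_one_of_dvd_coprimes (a := p ^ j) ?_ (dvd_of_eq hj)
      (orderOf_dvd_of_pow_eq_one h1))
    exact ((Fact.out : p.Prime).coprime_iff_not_dvd.2 hidx).pow_left j
  have h3 : (a : MulAut (Dom S Q)) ∈ autInducedBy (normalizerIn T Q) (Dom S Q) :=
    (QuotientGroup.eq_one_iff (N := PT) ⟨a, haP⟩).1 h2
  obtain ⟨n, hn, hne⟩ := mem_autInducedBy_iff.1 h3
  have hnQ : n ∈ Q := by
    refine hcT (mem_centralizerIn_of_conj hn.1 fun x hx => ?_)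
    rw [← hne ⟨x, hQX hx⟩, ← autFn_apply _ (hQX hx)]
    exact hfix x hx
  refine MulEquiv.ext fun x => Subtype.ext ?_
  obtain ⟨q, hq, c, hc, hxe⟩ := exists_mul_of_mem_dom hQS x.2
  have hnq : n * q * n⁻¹ = q := by
    rw [← hne ⟨q, hQX hq⟩, ← autFn_apply _ (hQX hq)]
    exact hfix q hq
  have hnc : n * c * n⁻¹ = c := by
    rw [← (mem_centralizerIn.1 hc).2 n hnQ, mul_inv_cancel_right]
  show (((a : MulAut (Dom S Q)) x : Dom S Q) : Ω) = x
  rw [hne x, hxe]
  calc n * (q * c) * n⁻¹ = (n * q * n⁻¹) * (n * c * n⁻¹) := by group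
    _ = q * c := by rw [hnq, hnc]

end Cfsg.Agent.FusionFix
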