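import Cfsg.Agent.Lib.FusionFix.Kernel
import Cfsg.Agent.Lib.FusionFix.Induction
import Cfsg.Agent.Lib.Fusion.Model
import Cfsg.Agent.Lib.FusionCrit.Residual

/-
The constrained systems `E'` with normal `E`-centric `Q`: lifts of `Aut_E'(Q)` to `Q⟨c⟩`.
Main results: `Loc`, `Loc.lam`, `Loc.all_fix`, `Loc.exists_shift`.
-/

set_option autoImplicit false

namespace Cfsg.Agent.FusionFix

open Cfsg Cfsg.FusionSystem Cfsg.Agent.Fusion Cfsg.Agent.FusionNormalCent
open scoped Classical IsMulCommutative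

universe u

variable {Ω : Type u} [Group Ω] {S T U Q : Subgroup Ω} {F : FusionSystem S} {E : FusionSystem T}
  {E' : FusionSystem U} {p : ℕ} {c : Ω}

/-- A constrained subsystem of a normal subsystem, and an element centralizing `T`. -/
structure Loc (F : FusionSystem S) (E : FusionSystem T) (p : ℕ) (E' : FusionSystem U)
    (Q : Subgroup Ω) (c : Ω) : Prop where
  fin : Finite S
  prime : Fact p.Prime
  pgrp : IsPGroup p S
  satF : F.IsSaturated p
  nor : E.IsNormalIn F p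
  le : U ≤ T
  sat : E'.IsSaturated p
  sub : E'.IsSubsystemOf E
  qnor : E'.IsNormal Q
  qcen : E'.IsCentric Q
  ecen : E.IsCentric Q
  mem : c ∈ centralizerIn S T

namespace Loc

variable (L : Loc F E p E' Q c)
include L

theorem hTS : T ≤ S := L.nor.1.2.2.2.1.1
theorem hTc : F.StronglyClosed T := L.nor.1.2.2.2.1
theorem hQT : Q ≤ T := L.ecen.1
theorem hQS : Q ≤ S := L.hQT.trans L.hTS
theorem hcT : centralizerIn T Q ≤ Q := L.ecen.2 Q (isConj_refl E L.hQT)
theorem finU : Finite U := have := L.fin; finite_of_le (L.le.trans L.hTS)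
theorem pU : IsPGroup p U := L.pgrp.to_le (L.le.trans L.hTS)

theorem mem_Q : c ∈ centralizerIn S Q :=
  mem_centralizerIn.2 ⟨L.mem.1, fun x hx => (mem_centralizerIn.1 L.mem).2 x (L.hQT hx)⟩

theorem M_le : Q ⊔ Subgroup.zpowers c ≤ Dom S Q :=
  sup_le (le_dom S Q) ((Subgroup.zpowers_le).2 (cen_le_dom S Q L.mem_Q))

theorem M_le_S : Q ⊔ Subgroup.zpowers c ≤ S := sup_le L.hQS ((Subgroup.zpowers_le).2 L.mem.1)

theorem commute_M {x : Ω} (hx : x ∈ Q ⊔ Subgroup.zpowers c) : c * x = x * c := by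
  have h : Q ⊔ Subgroup.zpowers c ≤ Subgroup.centralizer ({c} : Set Ω) := by
    refine sup_le (fun q hq => Subgroup.mem_centralizer_singleton_iff.2 ?_)
      ((Subgroup.zpowers_le).2 (Subgroup.mem_centralizer_singleton_iff.2 rfl))
    exact ((mem_centralizerIn.1 L.mem_Q).2 q hq).symm
  exact (Subgroup.mem_centralizer_singleton_iff.1 (h hx)).symm

theorem unique {γ γ' : MulAut (Q ⊔ Subgroup.zpowers c : Subgroup Ω)}
    (hγ : γ ∈ Gam F E p Q (Q ⊔ Subgroup.zpowers c))
    (hγ' : γ' ∈ Gam F E p Q (Q ⊔ Subgroup.zpowers c))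
    (h : ∀ x ∈ Q, autFn γ x = autFn γ' x) : γ = γ' := by
  have := L.fin
  have := L.prime
  have h1 : γ'⁻¹ * γ = 1 := kernel L.pgrp L.satF L.nor L.ecen le_sup_left L.M_le
    (mul_mem (inv_mem hγ') hγ) fun x hx => by
      have hx0 : x ∈ Q ⊔ Subgroup.zpowers c := le_sup_left (b := Subgroup.zpowers c) hx
      have h2 : γ ⟨x, hx0⟩ = γ' ⟨x, hx0⟩ := Subtype.ext (by
        rw [← autFn_apply γ hx0, h x hx, autFn_apply γ' hx0])
      rw [autFn_apply _ hx0, MulAut.mul_apply, h2, MulAut.inv_apply_self]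
  exact (inv_mul_eq_one.1 h1).symm

theorem exists_lam {α : MulAut Q} (hα : α ∈ E'.autGroup Q) :
    ∃ γ ∈ Gam F E p Q (Q ⊔ Subgroup.zpowers c), ∀ x ∈ Q, autFn γ x = autFn α x := by
  have := L.fin
  have := L.prime
  have := L.finU
  have := finite_mulAut (S := S) L.hQS
  let H : Subgroup (MulAut Q) :=
    { carrier := {a | ∃ γ ∈ Gam F E p Q (Q ⊔ Subgroup.zpowers c), ∀ x ∈ Q, autFn γ x = autFn a x}
      one_mem' := ⟨1, one_mem _, fun x hx => by
        rw [autFn_apply _ (le_sup_left (b := Subgroup.zpowers c) hx), autFn_apply _ hx]; rfl⟩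
      mul_mem' := by
        rintro a a' ⟨b, hb, he⟩ ⟨b', hb', he'⟩
        refine ⟨b * b', mul_mem hb hb', fun x hx => ?_⟩
        have hx0 := le_sup_left (b := Subgroup.zpowers c) hx
        have h1 : ((b' ⟨x, hx0⟩ : (Q ⊔ Subgroup.zpowers c : Subgroup Ω)) : Ω) = (a' ⟨x, hx⟩ : Q) := by
          rw [← autFn_apply b' hx0, he' x hx, autFn_apply a' hx]
        rw [autFn_apply (a * a') hx, MulAut.mul_apply, ← autFn_apply a (a' ⟨x, hx⟩).2,
          ← he _ (a' ⟨x, hx⟩).2, ← h1, autFn_apply (b * b') hx0, MulAut.mul_apply,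
          autFn_apply b (b' ⟨x, hx0⟩).2]
      inv_mem' := by
        rintro a ⟨b, hb, he⟩
        refine ⟨b⁻¹, inv_mem hb, fun x hx => ?_⟩
        set y := a⁻¹ ⟨x, hx⟩
        have hx0 := le_sup_left (b := Subgroup.zpowers c) hx
        have hy0 := le_sup_left (b := Subgroup.zpowers c) y.2
        have h1 : (⟨x, hx0⟩ : (Q ⊔ Subgroup.zpowers c : Subgroup Ω)) = b ⟨y, hy0⟩ := by
          refine Subtype.ext ?_
          rw [← autFn_apply b hy0, he y y.2, autFn_apply a y.2]
          exact (congrArg Subtype.val (MulAut.apply_inv_self _ a ⟨x, hx⟩)).symm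
        rw [autFn_apply b⁻¹ hx0, autFn_apply a⁻¹ hx, h1, MulAut.inv_apply_self] }
  have hQf : E'.IsFullyNormalized Q := ⟨L.qnor.1, fun R hR => by
    obtain ⟨g, hg⟩ := isConj_iff.1 hR
    have := finite_of_le (S := U) (P := normalizerIn U Q) inf_le_left
    exact Subgroup.card_le_of_le (inf_le_left.trans (le_inf le_rfl
      (normalizes_of_stronglyClosed (Fusion.stronglyClosed_of_normal L.qnor))))⟩
  show α ∈ H
  refine FusionNormal.autGroup_le_of_sylow_pResidual (H := H)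
    (isFullyAutomized_iff.1 (fullyAutomized_of_fullyNormalized L.pU L.sat hQf)).2 (fun a ha => ?_)
    (fun a ha hn => ?_) hα
  · obtain ⟨t, ht, hte⟩ := mem_autInducedBy_iff.1 ha
    obtain ⟨γ, hγ, hγe⟩ := exists_conj_tame (p := p) (E := E) L.hTc L.hQT L.hcT le_sup_left L.M_le
      (⟨L.le ht, (mem_normalizerIn_of_aut ht hte).2⟩ : t ∈ normalizerIn T Q)
    exact ⟨γ, Subgroup.subset_closure hγ, fun x hx => by
      rw [hγe x (le_sup_left (b := Subgroup.zpowers c) hx), autFn_apply a hx]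
      exact (hte ⟨x, hx⟩).symm⟩
  · obtain ⟨γ, hγ, -, hγe⟩ := exists_tame L.pgrp L.satF L.nor (M := Q ⊔ Subgroup.zpowers c) L.ecen
      le_sup_left L.M_le (FusionNormal.autGroup_le_of_sub L.sub L.qnor.1 ha) hn
    exact ⟨γ, Subgroup.subset_closure hγ, hγe⟩

/-- The lift of `Aut_E'(Q)` to `Q⟨c⟩`. -/
noncomputable def lam : E'.autGroup Q →* MulAut (Q ⊔ Subgroup.zpowers c : Subgroup Ω) where
  toFun a := (L.exists_lam a.2).choose
  map_one' := L.unique (L.exists_lam (1 : E'.autGroup Q).2).choose_spec.1 (one_mem _) fun x hx => by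
    rw [(L.exists_lam (1 : E'.autGroup Q).2).choose_spec.2 x hx, autFn_apply _ hx,
      autFn_apply _ (le_sup_left (b := Subgroup.zpowers c) hx)]
    rfl
  map_mul' a b := L.unique (L.exists_lam (a * b).2).choose_spec.1
    (mul_mem (L.exists_lam a.2).choose_spec.1 (L.exists_lam b.2).choose_spec.1) fun x hx => by
    have hx0 := le_sup_left (b := Subgroup.zpowers c) hx
    set γa := (L.exists_lam a.2).choose
    set γb := (L.exists_lam b.2).choose
    have h1 : ((γb ⟨x, hx0⟩ : (Q ⊔ Subgroup.zpowers c : Subgroup Ω)) : Ω) =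
        ((b : MulAut Q) ⟨x, hx⟩ : Q) := by
      rw [← autFn_apply γb hx0, (L.exists_lam b.2).choose_spec.2 x hx, autFn_apply _ hx]
    rw [(L.exists_lam (a * b).2).choose_spec.2 x hx, autFn_apply ((a * b : E'.autGroup Q) : MulAut Q) hx,
      autFn_apply (γa * γb) hx0, MulAut.mul_apply, ← autFn_apply γa (γb ⟨x, hx0⟩).2, h1,
      (L.exists_lam a.2).choose_spec.2 _ ((b : MulAut Q) ⟨x, hx⟩).2,
      autFn_apply _ ((b : MulAut Q) ⟨x, hx⟩).2]
    rfl

theorem lam_mem (a : E'.autGroup Q) : L.lam a ∈ Gam F E p Q (Q ⊔ Subgroup.zpowers c) := by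
  show (L.exists_lam a.2).choose ∈ _
  exact (L.exists_lam a.2).choose_spec.1

theorem lam_eq (a : E'.autGroup Q) {x : Ω} (hx : x ∈ Q) :
    autFn (L.lam a) x = autFn (a : MulAut Q) x := by
  show autFn (L.exists_lam a.2).choose x = _
  exact (L.exists_lam a.2).choose_spec.2 x hx

theorem lam_conj {a : E'.autGroup Q} {t : Ω} (ht : t ∈ U)
    (hte : ∀ x : Q, (((a : MulAut Q) x : Q) : Ω) = t * x * t⁻¹) {x : Ω}
    (hx : x ∈ Q ⊔ Subgroup.zpowers c) : autFn (L.lam a) x = t * x * t⁻¹ := by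
  have := L.fin
  obtain ⟨γ, hγ, hγe⟩ := exists_conj_tame (p := p) (E := E) L.hTc L.hQT L.hcT le_sup_left L.M_le
    (⟨L.le ht, (mem_normalizerIn_of_aut ht hte).2⟩ : t ∈ normalizerIn T Q)
  rw [L.unique (L.lam_mem a) (Subgroup.subset_closure hγ) fun y hy => by
    rw [L.lam_eq a hy, hγe y (le_sup_left (b := Subgroup.zpowers c) hy), autFn_apply _ hy]
    exact hte ⟨y, hy⟩]
  exact hγe x hx

omit L in
theorem zpowers_fix {M : Subgroup Ω} {G : Ω → Ω} (hG : IsMap F M G) (hc : c ∈ M) (h : G c = c)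
    {y : Ω} (hy : y ∈ Subgroup.zpowers c) : G y = y := by
  obtain ⟨θ, -, e⟩ := hG
  obtain ⟨j, rfl⟩ := Subgroup.mem_zpowers_iff.1 hy
  have hj : c ^ j ∈ M := zpow_mem hc j
  rw [← e _ hj, show (⟨c ^ j, hj⟩ : M) = (⟨c, hc⟩ : M) ^ j from Subtype.ext (by simp), map_zpow,
    e c hc, h]

/-- If the lifts fix `c`, all maps of `E'` have extensions fixing `c`. -/
theorem all_fix (hA : ∀ α ∈ E'.autGroup Q, ∃ γ ∈ Gam F E p Q (Q ⊔ Subgroup.zpowers c),
      (∀ x ∈ Q, autFn γ x = autFn α x) ∧ autFn γ c = c) :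
    ∀ P f, IsMap E' P f → Fix F (Subgroup.zpowers c) P f := by
  have := L.fin
  have := L.prime
  have := L.finU
  intro P f hf
  refine FusionChain.alperin_induction L.pU L.sat (fun P f => Fix F (Subgroup.zpowers c) P f)
    (fun P f g _ h e => fix_congr h e) (fun P P' f _ hle h => fix_mono h hle)
    (fun P P' f g _ _ hfP h h' => fix_comp hfP h h') ?_ hf
  intro R hR hRc _ α hα big
  have hRT : R ≤ T := hR.1.trans L.le
  have hRS := hRT.trans L.hTS
  have hcS : Subgroup.zpowers c ≤ S := (Subgroup.zpowers_le).2 L.mem.1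
  by_cases hQR : Q ≤ R
  swap
  · obtain ⟨g, hg, hge, -⟩ := (FusionChain.isNormal_iff.1 L.qnor).2 R _ (isIso_autFn hR.1 hα).1
    have : Finite (R ⊔ Q : Subgroup Ω) := finite_of_le hg.le
    have hlt : Nat.card R < Nat.card (R ⊔ Q : Subgroup Ω) :=
      lt_of_le_of_ne (Subgroup.card_le_of_le le_sup_left) fun e =>
        hQR ((le_sup_right : Q ≤ R ⊔ Q).trans (eq_of_le_of_card hg.le le_sup_left e.ge).ge)
    exact fix_congr (fix_mono (big _ g hg hlt) le_sup_left) hge
  have hRec : E.IsCentric R := FusionCrit.isCentric_of_le L.ecen hQR hRT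
  have := finite_mulAut (S := S) hRS
  let H : Subgroup (MulAut R) :=
    { carrier := {a | Fix F (Subgroup.zpowers c) R (autFn a)}
      one_mem' := ⟨fun x => x, IsMap.id (sup_le hRS hcS),
        fun x hx => by rw [autFn_apply _ hx]; rfl, fun _ _ => rfl⟩
      mul_mem' := by
        rintro a b ha hb
        refine fix_congr (fix_comp (fun x hx => autFn_mem b hx) hb ha) fun x hx => ?_
        refine (autFn_apply a (autFn_mem b hx)).trans (Eq.trans ?_ (autFn_apply (a * b) hx).symm)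
        exact congrArg (fun z : R => ((a z : R) : Ω)) (Subtype.ext (autFn_apply b hx))
      inv_mem' := by
        rintro a ha
        refine fix_symm (fun x hx => autFn_mem a hx) (fun x hx => ?_) (fun y hy => ?_) ha
        · rw [autFn_apply a hx, autFn_apply a⁻¹ (a ⟨x, hx⟩).2]
          exact congrArg Subtype.val (MulAut.inv_apply_self _ a ⟨x, hx⟩)
        · refine ⟨(a⁻¹ ⟨y, hy⟩ : R), (a⁻¹ ⟨y, hy⟩).2, ?_⟩
          rw [autFn_apply a (a⁻¹ ⟨y, hy⟩).2]
          exact congrArg Subtype.val (MulAut.apply_inv_self _ a ⟨y, hy⟩) }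
  show α ∈ H
  refine FusionNormal.autGroup_le_of_sylow_pResidual (H := H)
    (isFullyAutomized_iff.1 (fullyAutomized_of_fullyNormalized L.pU L.sat hR)).2 (fun a ha => ?_)
    (fun a ha hn => ?_) hα
  · obtain ⟨t, ht, hte⟩ := mem_autInducedBy_iff.1 ha
    refine ⟨_, IsMap.conj (sup_le hRS hcS) (L.hTS (L.le ht)),
      fun x hx => ((autFn_apply a hx).trans (hte ⟨x, hx⟩)).symm, fun y hy => ?_⟩
    obtain ⟨j, rfl⟩ := Subgroup.mem_zpowers_iff.1 hy
    rw [← (mem_centralizerIn.1 (zpow_mem L.mem j)).2 t (L.le ht), mul_inv_cancel_right]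
  -- automorphisms of order prime to `p`
  have hcR : c ∈ centralizerIn S R :=
    mem_centralizerIn.2 ⟨L.mem.1, fun x hx => (mem_centralizerIn.1 L.mem).2 x (hRT hx)⟩
  have hN : R ⊔ Subgroup.zpowers c ≤ Dom S R :=
    sup_le (le_dom S R) ((Subgroup.zpowers_le).2 (cen_le_dom S R hcR))
  obtain ⟨γ, hγ, hγn, hγe⟩ := exists_tame L.pgrp L.satF L.nor hRec le_sup_left hN
    (FusionNormal.autGroup_le_of_sub L.sub hR.1 ha) hn
  have hMN : Q ⊔ Subgroup.zpowers c ≤ R ⊔ Subgroup.zpowers c := sup_le_sup_right hQR _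
  have haQ : ∀ x ∈ Q, autFn a x ∈ Q :=
    FusionChain.mapsTo_of_normal L.qnor ((mem_autGroup_iff hR.1).1 ha) hQR
  have hm := (mem_autGroup_iff (hN.trans (dom_le hRS))).1 hγ.1.1
  have hcN : c ∈ R ⊔ Subgroup.zpowers c := le_sup_right (a := R) (Subgroup.mem_zpowers c)
  have hcd : c⁻¹ * autFn γ c ∈ Q := by
    refine L.hcT (mem_centralizerIn_of_conj (hRT (hγ.1.2.1 c hcN)) fun x hx => ?_)
    have hx0 : x ∈ R ⊔ Subgroup.zpowers c := le_sup_left (b := Subgroup.zpowers c) (hQR hx)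
    obtain ⟨y, hy, rfl⟩ : ∃ y ∈ Q, autFn γ y = x := by
      obtain ⟨y, hy, hye⟩ := (hm.mem_img_iff (le_sup_left.trans hMN)).1 (show x ∈ img (autFn γ) Q by
        rw [eq_of_le_of_card L.hQS (hm.img_le (le_sup_left.trans hMN) fun z hz => by
          rw [hγe z (hQR hz)]; exact haQ z hz) (hm.card_img (le_sup_left.trans hMN)).ge]
        exact hx)
      exact ⟨y, hy, hye⟩
    have hγy : autFn γ y ∈ Q := by rw [hγe y (hQR hy)]; exact haQ y hy
    have h1 := hm.map_conj hcN (le_sup_left (b := Subgroup.zpowers c) (hQR hy))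
    rw [centralizerIn_conj L.mem_Q hy] at h1
    calc c⁻¹ * autFn γ c * autFn γ y * (c⁻¹ * autFn γ c)⁻¹
        = c⁻¹ * (autFn γ c * autFn γ y * (autFn γ c)⁻¹) * c := by group
      _ = c⁻¹ * autFn γ y * c := by rw [← h1]
      _ = autFn γ y := by
        have := centralizerIn_conj (inv_mem L.mem_Q) hγy
        rwa [inv_inv] at this
  have hlift : IsLift F E Q (R ⊔ Subgroup.zpowers c) γ → True := fun _ => trivial
  clear hlift
  have hmap : IsMap E Q (autFn γ) :=
    ((mem_autGroup_iff hRT).1 (FusionNormal.autGroup_le_of_sub L.sub hR.1 ha)).mono hQR |>.congr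
      fun x hx => (hγe x (hQR hx)).symm
  -- restriction to `Q⟨c⟩`
  have hmem : ∀ x ∈ Q ⊔ Subgroup.zpowers c, autFn γ x ∈ Q ⊔ Subgroup.zpowers c := fun x hx =>
    (hm.mono hMN).forall_mem_sup le_sup_left le_sup_right
      (fun w hw => le_sup_left (b := Subgroup.zpowers c) (by rw [hγe w (hQR hw)]; exact haQ w hw))
      (fun w hw => by
        have hcM : autFn γ c ∈ Q ⊔ Subgroup.zpowers c := by
          have := mul_mem (le_sup_right (a := Q) (Subgroup.mem_zpowers c))
            (le_sup_left (b := Subgroup.zpowers c) hcd)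
          rwa [mul_inv_cancel_left] at this
        obtain ⟨θ, -, e⟩ := id (hm.mono hMN)
        obtain ⟨j, rfl⟩ := Subgroup.mem_zpowers_iff.1 hw
        have hcM0 := le_sup_right (a := Q) (Subgroup.mem_zpowers c)
        rw [← e _ (zpow_mem hcM0 j), show (⟨c ^ j, zpow_mem hcM0 j⟩ :
          (Q ⊔ Subgroup.zpowers c : Subgroup Ω)) = ⟨c, hcM0⟩ ^ j from Subtype.ext (by simp),
          map_zpow, e c hcM0]
        exact zpow_mem hcM j) hx
  obtain ⟨δ, hδ, hδe⟩ := exists_aut_of_isIso (F := F) (P := Q ⊔ Subgroup.zpowers c) (f := autFn γ)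
    ⟨hm.mono hMN, eq_of_le_of_card L.M_le_S ((hm.mono hMN).img_le le_rfl hmem)
      ((hm.mono hMN).card_img le_rfl).ge⟩
  have hδe' : ∀ x ∈ Q ⊔ Subgroup.zpowers c, autFn δ x = autFn γ x :=
    fun x hx => (autFn_apply δ hx).trans (hδe ⟨x, hx⟩)
  have hδn : δ ^ orderOf γ = 1 := by
    refine MulEquiv.ext fun x => Subtype.ext ?_
    rw [← autFn_apply (δ ^ orderOf γ) x.2, autFn_pow δ _ x.2, iterate_congr hmem hδe' _ x x.2,
      ← autFn_pow γ _ (hMN x.2), pow_orderOf_eq_one, autFn_apply _ (hMN x.2)]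
    rfl
  have hδmod : ∀ x ∈ Q ⊔ Subgroup.zpowers c, x⁻¹ * autFn δ x ∈ Q := by
    intro x hx
    rw [hδe' x hx]
    refine mod_of_gen (hm.mono hMN) (L.M_le.trans (dom_le_normalizerIn L.hQS)) (fun w hw => ?_)
      (fun w hw => ?_) x hx
    · exact mul_mem (inv_mem hw) (by rw [hγe w (hQR hw)]; exact haQ w hw)
    · obtain ⟨j, rfl⟩ := Subgroup.mem_zpowers_iff.1 hw
      obtain ⟨θ, -, e⟩ := id (hm.mono hMN)
      have hcM0 := le_sup_right (a := Q) (Subgroup.mem_zpowers c)
      rw [← e _ (zpow_mem hcM0 j), show (⟨c ^ j, zpow_mem hcM0 j⟩ :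
        (Q ⊔ Subgroup.zpowers c : Subgroup Ω)) = ⟨c, hcM0⟩ ^ j from Subtype.ext (by simp),
        map_zpow, e c hcM0]
      have hcomm : Commute c (c⁻¹ * autFn γ c) :=
        L.commute_M (le_sup_left (b := Subgroup.zpowers c) hcd)
      rw [show autFn γ c = c * (c⁻¹ * autFn γ c) from (mul_inv_cancel_left _ _).symm,
        hcomm.mul_zpow, inv_mul_cancel_left]
      exact zpow_mem hcd j
  have hδT : Tame F E p Q (Q ⊔ Subgroup.zpowers c) δ :=
    ⟨⟨hδ, hδmod, hmap.congr fun x hx => (hδe' x (le_sup_left (b := Subgroup.zpowers c) hx)).symm⟩,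
      Or.inl (coprime_of_pow_eq_one hγn hδn)⟩
  have haQ' : IsIso E' Q Q (autFn a) := ⟨((mem_autGroup_iff hR.1).1 ha).mono hQR,
    eq_of_le_of_card L.qnor.1 (((mem_autGroup_iff hR.1).1 ha).img_le hQR haQ)
      (((mem_autGroup_iff hR.1).1 ha).card_img hQR).ge⟩
  obtain ⟨β, hβ, hβe⟩ := exists_aut_of_isIso haQ'
  obtain ⟨γ0, hγ0, hγ0e, hγ0c⟩ := hA β hβ
  have heq : δ = γ0 := L.unique (Subgroup.subset_closure hδT) hγ0 fun x hx => by
    rw [hδe' x (le_sup_left (b := Subgroup.zpowers c) hx), hγe x (hQR hx), hγ0e x hx,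
      autFn_apply β hx, hβe]
  have hγc : autFn γ c = c := by
    rw [← hδe' c (le_sup_right (a := Q) (Subgroup.mem_zpowers c)), heq, hγ0c]
  exact ⟨autFn γ, hm, hγe, fun y hy => zpowers_fix hm hcN hγc hy⟩

/-- A translate of `c` by an element of `Q` fixed by all the lifts. -/
theorem exists_shift (hUT : T ≤ U) :
    ∃ z ∈ Q, z ∈ centralizerIn S T ∧ ∀ a : E'.autGroup Q, autFn (L.lam a) (c * z) = c * z := by
  have := L.fin
  have := L.prime
  have := L.finU
  have hMS := L.M_le_S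
  have := finite_of_le hMS
  have := finite_mulAut (S := S) L.hQS
  set Zc := Subgroup.center (Q ⊔ Subgroup.zpowers c : Subgroup Ω)
  have hcM : c ∈ Q ⊔ Subgroup.zpowers c := le_sup_right (a := Q) (Subgroup.mem_zpowers c)
  set cM : (Q ⊔ Subgroup.zpowers c : Subgroup Ω) := ⟨c, hcM⟩ with hcMdef
  have hcZ : cM ∈ Zc := Subgroup.mem_center_iff.2 fun x => Subtype.ext (L.commute_M x.2).symm
  have hinv : ∀ (γ : MulAut (Q ⊔ Subgroup.zpowers c : Subgroup Ω)) (x), x ∈ Zc → γ x ∈ Zc := by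
    intro γ x hx
    refine Subgroup.mem_center_iff.2 fun y => ?_
    obtain ⟨y, rfl⟩ := γ.surjective y
    rw [← map_mul, ← map_mul, Subgroup.mem_center_iff.1 hx y]
  set H : Subgroup (E'.autGroup Q) := (autInducedBy U Q).subgroupOf (E'.autGroup Q)
  have hHc : ∀ h ∈ H, L.lam h cM = cM := by
    intro h hh
    obtain ⟨t, ht, hte⟩ := mem_autInducedBy_iff.1 (hh : (h : MulAut Q) ∈ _)
    refine Subtype.ext ?_
    rw [← autFn_apply _ hcM, L.lam_conj ht hte hcM,
      ← (mem_centralizerIn.1 L.mem).2 t (L.le ht), mul_inv_cancel_right]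
  have hfinQ : Finite (E'.autGroup Q ⧸ H) := inferInstance
  have := Fintype.ofFinite (E'.autGroup Q ⧸ H)
  let ZQ : Subgroup (Q ⊔ Subgroup.zpowers c : Subgroup Ω) :=
    Zc ⊓ Q.subgroupOf (Q ⊔ Subgroup.zpowers c)
  let f : E'.autGroup Q ⧸ H → Zc := fun j => ⟨L.lam (Quotient.out j) cM, hinv _ _ hcZ⟩
  have hd : ∀ j : E'.autGroup Q ⧸ H, (cM : (Q ⊔ Subgroup.zpowers c : Subgroup Ω))⁻¹ * L.lam (Quotient.out j) cM ∈ ZQ := by
    intro j
    refine ⟨Subgroup.mul_mem _ (Subgroup.inv_mem _ hcZ) (hinv _ _ hcZ), ?_⟩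
    have h := (gam_le_lifts L.hTS L.hQT le_sup_left (L.lam_mem (Quotient.out j))).2.1 c hcM
    rw [autFn_apply _ hcM] at h
    exact h
  let d : E'.autGroup Q ⧸ H → ZQ := fun j => ⟨_, hd j⟩
  haveI : IsMulCommutative ZQ := ⟨⟨fun x y => Subtype.ext (Subgroup.mem_center_iff.1 y.2.1 x)⟩⟩
  have hidx : ¬ p ∣ H.index := by
    have hQf : E'.IsFullyNormalized Q := ⟨L.qnor.1, fun R _ => by
      have := finite_of_le (S := U) (P := normalizerIn U Q) inf_le_left
      exact Subgroup.card_le_of_le (inf_le_left.trans (le_inf le_rfl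
        (normalizes_of_stronglyClosed (Fusion.stronglyClosed_of_normal L.qnor))))⟩
    have hs := (isFullyAutomized_iff.1 (fullyAutomized_of_fullyNormalized L.pU L.sat hQf)).2
    obtain ⟨R, hR⟩ := (isSylowIn_iff_exists hs.le).1 hs
    rw [show H = (R : Subgroup (E'.autGroup Q)) from hR.symm]
    exact R.not_dvd_index
  have hcopG : ∀ K : Subgroup (Q ⊔ Subgroup.zpowers c : Subgroup Ω),
      (Nat.card K).Coprime (Fintype.card (E'.autGroup Q ⧸ H)) := fun K => by
    obtain ⟨k, hk⟩ := IsPGroup.iff_card.1 ((L.pgrp.to_le hMS).to_subgroup K)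
    rw [hk, ← Nat.card_eq_fintype_card]
    exact ((Fact.out : p.Prime).coprime_iff_not_dvd.2 hidx).pow_left k
  have hcop := hcopG ZQ
  obtain ⟨w, hw⟩ := (powCoprime hcop).surjective (∏ j, d j)
  rw [powCoprime_apply] at hw
  set z : (Q ⊔ Subgroup.zpowers c : Subgroup Ω) := (w : (Q ⊔ Subgroup.zpowers c : Subgroup Ω))
  have hzZ : z ∈ Zc := w.2.1
  set x : Zc := ⟨cM * z, mul_mem hcZ hzZ⟩
  have hprod : (∏ j, f j) = x ^ Fintype.card (E'.autGroup Q ⧸ H) := by
    let e : ZQ →* Zc := Subgroup.inclusion inf_le_left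
    have hf : ∀ j, f j = (⟨cM, hcZ⟩ : Zc) * e (d j) := fun j =>
      Subtype.ext (mul_inv_cancel_left _ _).symm
    rw [Finset.prod_congr rfl fun j _ => hf j, Finset.prod_mul_distrib, Finset.prod_const,
      Finset.card_univ, ← map_prod, ← hw, _root_.map_pow, ← mul_pow]
    rfl
  have hfix : ∀ a : E'.autGroup Q, L.lam a (cM * z) = cM * z := by
    intro a
    let r : Zc →* Zc := ((L.lam a).toMonoidHom.comp Zc.subtype).codRestrict Zc fun y => hinv _ _ y.2
    have hr : r (∏ j, f j) = ∏ j, f j := by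
      rw [map_prod]
      calc (∏ j, r (f j)) = ∏ j, f (a • j) := Finset.prod_congr rfl fun j _ => by
            refine Subtype.ext ?_
            show L.lam a (L.lam (Quotient.out j) cM) = L.lam (Quotient.out (a • j)) cM
            obtain ⟨h, hh⟩ : ∃ h : H, Quotient.out (a • j) = a * Quotient.out j * h := by
              have := QuotientGroup.mk_out_eq_mul H (a * Quotient.out j)
              rwa [show (QuotientGroup.mk (a * Quotient.out j) : E'.autGroup Q ⧸ H) = a • j by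
                conv_rhs => rw [← QuotientGroup.out_eq' j]
                rfl] at this
            rw [hh, map_mul, map_mul, MulAut.mul_apply, MulAut.mul_apply, hHc h h.2]
        _ = ∏ j, f j := Fintype.prod_equiv (MulAction.toPerm a) _ _ fun j => rfl
    rw [hprod, _root_.map_pow] at hr
    have hcopZ := hcopG Zc
    exact congrArg Subtype.val ((powCoprime hcopZ).injective (by simpa only [powCoprime_apply] using hr))
  have hzQ : (z : Ω) ∈ Q := w.2.2
  refine ⟨z, hzQ, mem_centralizerIn_of_conj (L.hQS hzQ) fun t ht => ?_, fun a => ?_⟩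
  · have hconj : ∀ x ∈ Q, t * x * t⁻¹ ∈ Q := fun x hx =>
      conj_mem_of_stronglyClosed (Fusion.stronglyClosed_of_normal L.qnor) (hUT ht) hx
    have := finite_of_le L.hQS
    have htN : t ∈ normalizerIn U Q := mem_normalizerIn_of_conj (hUT ht) hconj
    have ha : normConj U Q ⟨t, htN⟩ ∈ E'.autGroup Q :=
      autInducedBy_le_autGroup E' le_rfl L.qnor.1 (range_normConj U Q ▸ ⟨_, rfl⟩)
    have h1 := congrArg Subtype.val (hfix ⟨_, ha⟩)
    rw [← autFn_apply _ (cM * z).2, L.lam_conj (hUT ht) (fun x => normConj_apply _ x) (cM * z).2] at h1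
    have h2 : t * (z : Ω) * t⁻¹ = z := by
      have hct := (mem_centralizerIn.1 L.mem).2 t ht
      have h3 : c * (t * (z : Ω) * t⁻¹) = c * z := by
        rw [← mul_assoc, ← mul_assoc, hct, mul_assoc t c]
        exact h1
      exact mul_left_cancel h3
    calc (z : Ω) * t * (z : Ω)⁻¹ = (t * z * t⁻¹) * t * (z : Ω)⁻¹ := by rw [h2]
      _ = t := by group
  · have := congrArg Subtype.val (hfix a)
    rwa [← autFn_apply _ (cM * z).2] at this

end Loc

end Cfsg.Agent.FusionFix
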